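import Mathlib
import Groth.Prelude.Def_GmAct

/-!
# The ring `R[s, t]/(s t - π)` over a discrete valuation ring
-/

universe u

open scoped Polynomial

namespace Groth.Agent.ThetaSLib

variable {R : Type u} [CommRing R] [IsDomain R] [IsDiscreteValuationRing R] {π : R}

theorem irreducible_rel (hπ : π ≠ 0) :
    Irreducible (MvPolynomial.X 0 * MvPolynomial.X 1 - MvPolynomial.C π : MvPolynomial (Fin 2) R) := by
  classical
  rw [sub_eq_add_neg, ← map_neg]
  refine MvPolynomial.irreducible_mul_X_add _ _ 1 (MvPolynomial.X_ne_zero 0) (by simp)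
    (by simp [MvPolynomial.vars_C]) ?_
  have hX : Prime (MvPolynomial.X 0 : MvPolynomial (Fin 2) R) := MvPolynomial.X_prime
  rw [hX.irreducible.isRelPrime_iff_not_dvd]
  rintro ⟨q, hq⟩
  have h := congrArg (MvPolynomial.eval (0 : Fin 2 → R)) hq
  simp at h
  exact hπ h

theorem isDomain_STRing (hπ : π ≠ 0) : IsDomain (ThetaS.STRing R π) := by
  have : (Ideal.span {(MvPolynomial.X 0 * MvPolynomial.X 1 - MvPolynomial.C π :
      MvPolynomial (Fin 2) R)}).IsPrime :=
    (Ideal.span_singleton_prime (irreducible_rel hπ).ne_zero).2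
      (UniqueFactorizationMonoid.irreducible_iff_prime.1 (irreducible_rel hπ))
  exact Ideal.Quotient.isDomain _

theorem sFn_ne_zero (hπ : π ≠ 0) : ThetaS.sFn R π ≠ 0 := fun h => by
  have := congrArg (ThetaS.stPt (π := π) π (1 : R) (by simp)) h
  rw [ThetaS.stPt_sFn, map_zero] at this
  exact hπ this

/-- The functions on the branch `s = 0` of the special fibre. -/
noncomputable def branch (R : Type u) [CommRing R] (π : R) : ThetaS.STRing R π →ₐ[R] (R ⧸ Ideal.span {π})[X] :=
  ThetaS.stPt 0 Polynomial.X (by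
    rw [zero_mul, Polynomial.algebraMap_apply, Ideal.Quotient.algebraMap_eq,
      Ideal.Quotient.eq_zero_iff_mem.2 (Ideal.mem_span_singleton_self π), map_zero])

theorem branch_aeval (p : R[X]) :
    branch R π (Polynomial.aeval (ThetaS.tFn R π) p) = p.map (Ideal.Quotient.mk _) := by
  rw [← Polynomial.aeval_algHom_apply, branch, ThetaS.stPt_tFn,
    ← Ideal.Quotient.algebraMap_eq]
  induction p using Polynomial.induction_on' with
  | add a b ha hb => simp [ha, hb]
  | monomial n a => simp [Polynomial.C_mul_X_pow_eq_monomial.symm, Polynomial.algebraMap_apply]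

theorem exists_eq_mul_sFn_add (c : ThetaS.STRing R π) :
    ∃ (q : ThetaS.STRing R π) (p : R[X]), c = ThetaS.sFn R π * q + Polynomial.aeval (ThetaS.tFn R π) p := by
  obtain ⟨c, rfl⟩ := Ideal.Quotient.mk_surjective c
  induction c using MvPolynomial.induction_on with
  | C a => exact ⟨0, Polynomial.C a, by simp; rfl⟩
  | add a b ha hb =>
    obtain ⟨q, p, hqp⟩ := ha
    obtain ⟨q', p', hqp'⟩ := hb
    exact ⟨q + q', p + p', by rw [map_add, hqp, hqp', map_add]; ring⟩
  | mul_X a i ha =>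
    obtain ⟨q, p, hqp⟩ := ha
    fin_cases i
    · exact ⟨ThetaS.sFn R π * q + Polynomial.aeval (ThetaS.tFn R π) p, 0, by
        rw [map_mul, hqp, map_zero]; simp only [Fin.zero_eta, Fin.isValue]; ring⟩
    · exact ⟨q * ThetaS.tFn R π, p * Polynomial.X, by
        rw [map_mul, hqp, map_mul, Polynomial.aeval_X]; simp only [Fin.mk_one, Fin.isValue]; ring⟩

theorem branch_eq_zero_iff (c : ThetaS.STRing R π) : branch R π c = 0 ↔ ThetaS.sFn R π ∣ c := by
  refine ⟨fun h => ?_, fun ⟨q, hq⟩ => by rw [hq, map_mul, branch, ThetaS.stPt_sFn, zero_mul]⟩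
  obtain ⟨q, p, rfl⟩ := exists_eq_mul_sFn_add c
  have hs : branch R π (ThetaS.sFn R π) = 0 := ThetaS.stPt_sFn _ _ _
  rw [map_add, map_mul, hs, zero_mul, zero_add, branch_aeval] at h
  obtain ⟨p', rfl⟩ : Polynomial.C π ∣ p :=
    Polynomial.C_dvd_iff_dvd_coeff _ _ |>.2 fun n => by
      have := congrArg (fun r : (R ⧸ Ideal.span {π})[X] => r.coeff n) h
      simp only [Polynomial.coeff_map, Polynomial.coeff_zero] at this
      exact Ideal.mem_span_singleton.1 (Ideal.Quotient.eq_zero_iff_mem.1 this)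
  refine ⟨q + ThetaS.tFn R π * Polynomial.aeval (ThetaS.tFn R π) p', ?_⟩
  rw [map_mul, Polynomial.aeval_C, ← ThetaS.sFn_mul_tFn]
  ring

theorem prime_sFn (hπ : Irreducible π) : Prime (ThetaS.sFn R π) := by
  have : (Ideal.span {π}).IsPrime := (Ideal.span_singleton_prime hπ.ne_zero).2 hπ.prime
  have hs : branch R π (ThetaS.sFn R π) = 0 := ThetaS.stPt_sFn _ _ _
  refine ⟨sFn_ne_zero hπ.ne_zero, fun hu => ?_, fun a b hab => ?_⟩
  · exact not_isUnit_zero (hs ▸ hu.map (branch R π))
  · rw [← branch_eq_zero_iff, map_mul, mul_eq_zero] at hab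
    exact hab.imp (branch_eq_zero_iff a).1 (branch_eq_zero_iff b).1

theorem not_sFn_dvd_tFn (hπ : Irreducible π) : ¬ ThetaS.sFn R π ∣ ThetaS.tFn R π := by
  have : (Ideal.span {π}).IsPrime := (Ideal.span_singleton_prime hπ.ne_zero).2 hπ.prime
  rw [← branch_eq_zero_iff]
  rw [branch, ThetaS.stPt_tFn]
  exact Polynomial.X_ne_zero

end Groth.Agent.ThetaSLib
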