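import Groth.Agent.ThetaSLib.AffineAction
import Groth.Agent.ThetaSLib.STRingAlg

/-!
# Affine morphisms are Θ-reductive and S-complete
-/

set_option backward.isDefEq.respectTransparency false
set_option backward.isDefEq.respectTransparency.types false

universe u

open CategoryTheory CategoryTheory.Limits MonoidalCategory CartesianMonoidalCategory AlgebraicGeometry
open scoped TensorProduct Polynomial

namespace Groth.Agent.ThetaSLib

variable (R : Type u) [CommRing R]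

theorem isUnit_zPow (n : ℤ) : IsUnit (ThetaS.zPow R n) :=
  IsUnit.of_mul_eq_one _ (by rw [ThetaS.zPow_mul R n (-n), add_neg_cancel, ThetaS.zPow_zero])

/-- The left inclusion. -/
noncomputable abbrev iL (C : Type u) [CommRing C] [Algebra R C] : ThetaS.Lau R →ₐ[R] ThetaS.Lau R ⊗[R] C :=
  Algebra.TensorProduct.includeLeft

/-- The right inclusion. -/
noncomputable abbrev iR (C : Type u) [CommRing C] [Algebra R C] : C →ₐ[R] ThetaS.Lau R ⊗[R] C :=
  Algebra.TensorProduct.includeRight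

theorem line_act :
    univPt R (ThetaS.Lau R) R[X] ≫ (ThetaS.lineAction R).act =
      CoactBr.pt (ThetaS.linePt (iL R R[X] (ThetaS.zPow R 1) * iR R R[X] Polynomial.X)) := by
  have h : iR R R[X] = ThetaS.linePt (iR R R[X] Polynomial.X) := Polynomial.algHom_ext (by simp)
  have e : univPt R (ThetaS.Lau R) R[X] =
      lift (CoactBr.pt (iL R R[X])) (CoactBr.pt (ThetaS.linePt (iR R R[X] Polynomial.X))) := by
    rw [← h]; rfl
  rw [e]
  exact ThetaS.lineAction_pt _ _

theorem iR_rel (π : R) :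
    iR R (ThetaS.STRing R π) (ThetaS.sFn R π) * iR R (ThetaS.STRing R π) (ThetaS.tFn R π) =
      iR R (ThetaS.STRing R π) (algebraMap R (ThetaS.STRing R π) π) := by
  rw [← map_mul, ThetaS.sFn_mul_tFn]

theorem st_act (π : R) :
    univPt R (ThetaS.Lau R) (ThetaS.STRing R π) ≫ (ThetaS.stAction R π).act =
      CoactBr.pt (ThetaS.stPt (iL R (ThetaS.STRing R π) (ThetaS.zPow R 1) * iR R (ThetaS.STRing R π) (ThetaS.sFn R π))
        (iL R (ThetaS.STRing R π) (ThetaS.zPow R (-1)) * iR R (ThetaS.STRing R π) (ThetaS.tFn R π)) (by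
          rw [mul_mul_mul_comm, ← map_mul, ThetaS.zPow_mul, iR_rel, show (1 : ℤ) + -1 = 0 from by norm_num,
            ThetaS.zPow_zero, map_one, one_mul]
          exact (iR R (ThetaS.STRing R π)).commutes π)) := by
  have h : iR R (ThetaS.STRing R π) = ThetaS.stPt _ _ ((iR_rel R π).trans ((iR R (ThetaS.STRing R π)).commutes π)) :=
    ThetaS.stRing_algHom_ext (by rw [ThetaS.stPt_sFn]) (by rw [ThetaS.stPt_tFn])
  have e : univPt R (ThetaS.Lau R) (ThetaS.STRing R π) =
      lift (CoactBr.pt (iL R (ThetaS.STRing R π))) (CoactBr.pt (ThetaS.stPt _ _ ((iR_rel R π).trans ((iR R (ThetaS.STRing R π)).commutes π)))) := by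
    rw [← h]; rfl
  rw [e]
  exact ThetaS.stAction_pt _ _ _ _

variable [IsDomain R] [IsDiscreteValuationRing R] {S : Scheme.{u}}
  (h : Spec (CommRingCat.of R) ⟶ S) {𝒳 𝒴 : AlgSt.Cat S} (f : 𝒳 ⥤ᵇ 𝒴)
  (h𝒳 : FibCat.IsFibGrpd 𝒳.p) (h𝒴 : FibCat.IsFibGrpd 𝒴.p)
  (hf : AlgSt.RepByAlgSpWith (AlgSp.RepWith @IsAffineHom) f)

include h𝒳 h𝒴 hf in
theorem theta_liftsUniquely (ϖ : R) (hϖ : Irreducible ϖ) :
    LiftSq.LiftsUniquely (ThetaS.thetaIncl Scheme.fppfPrecoverage R ϖ h) f := by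
  refine liftsUniquely_affine (A := ThetaS.Lau R) (C := R[X]) (ThetaS.lineAction R) _ (line_act R)
    Polynomial.X (Polynomial.C ϖ) _ 1 ((isUnit_zPow R 1).map (iL R _)) isUnit_one
    (by rw [Polynomial.aeval_X]) ?_ Polynomial.prime_X (fun hd => hϖ.ne_zero ?_) h
    (ThetaS.MissesOrigin ϖ) (fun b => Iff.rfl) f h𝒳 h𝒴 hf
  · rw [one_mul, ← Polynomial.algebraMap_eq, AlgHom.commutes, AlgHom.commutes]
  · simpa using Polynomial.X_dvd_iff.1 hd

include h𝒳 h𝒴 hf in
theorem st_liftsUniquely (π : R) (hπ : Irreducible π) :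
    LiftSq.LiftsUniquely (ThetaS.stIncl Scheme.fppfPrecoverage R π h) f := by
  have := isDomain_STRing hπ.ne_zero
  exact liftsUniquely_affine (A := ThetaS.Lau R) (C := ThetaS.STRing R π) (ThetaS.stAction R π) _ (st_act R π)
    (ThetaS.sFn R π) (ThetaS.tFn R π) _ _ ((isUnit_zPow R 1).map (iL R _)) ((isUnit_zPow R (-1)).map (iL R _))
    (ThetaS.stPt_sFn _ _ _) (ThetaS.stPt_tFn _ _ _)
    (prime_sFn hπ) (not_sFn_dvd_tFn hπ) h ThetaS.MissesNode (fun b => Iff.rfl) f h𝒳 h𝒴 hf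

end Groth.Agent.ThetaSLib
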