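import Groth.Agent.ThetaSLib.Hartogs

/-!
# Functions on the union of two basic opens, for a regular pair
-/

universe u

open CategoryTheory AlgebraicGeometry TopologicalSpace Opposite
open scoped TensorProduct

namespace Groth.Agent.ThetaSLib

theorem dvd_mul_of_flat {C B : Type u} [CommRing C] [CommRing B] [Algebra C B] [Module.Flat C B] {c d : C}
    (hd : ∀ a : C, c ∣ a * d → c ∣ a) (b : B) (hb : algebraMap C B c ∣ b * algebraMap C B d) :
    algebraMap C B c ∣ b := by
  let e := Algebra.TensorProduct.quotIdealMapEquivTensorQuot B (Ideal.span {c})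
  have hmap : (Ideal.span {c}).map (algebraMap C B) = Ideal.span {algebraMap C B c} := by
    rw [Ideal.map_span, Set.image_singleton]
  let q : C ⧸ Ideal.span {c} →ₗ[C] C ⧸ Ideal.span {c} := LinearMap.lsmul C _ d
  have hq : Function.Injective q := by
    refine (injective_iff_map_eq_zero q).2 fun z hz => ?_
    obtain ⟨a, rfl⟩ := Ideal.Quotient.mk_surjective z
    change d • Ideal.Quotient.mk _ a = 0 at hz
    rw [Algebra.smul_def, Ideal.Quotient.algebraMap_eq, ← map_mul, Ideal.Quotient.eq_zero_iff_dvd, mul_comm] at hz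
    exact (Ideal.Quotient.eq_zero_iff_dvd c a).2 (hd a hz)
  have hqB : Function.Injective (q.lTensor B) := Module.Flat.lTensor_preserves_injective_linearMap q hq
  have hsm : ∀ z, q.lTensor B z = d • z := fun z => by
    induction z with
    | zero => simp
    | tmul x y =>
      rw [LinearMap.lTensor_tmul, LinearMap.lsmul_apply, TensorProduct.tmul_smul]
    | add x y hx hy => rw [map_add, hx, hy, smul_add]
  have h0 : d • e (Ideal.Quotient.mk _ b) = 0 := by
    rw [← algebraMap_smul B d (e (Ideal.Quotient.mk _ b)), ← map_smul e, ← map_zero e]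
    refine congrArg e ?_
    rw [Algebra.smul_def, Ideal.Quotient.algebraMap_eq, ← map_mul, Ideal.Quotient.eq_zero_iff_mem, hmap,
      Ideal.mem_span_singleton, mul_comm]
    exact hb
  have h1 : e (Ideal.Quotient.mk _ b) = 0 := hqB (by rw [hsm, h0, map_zero])
  rw [← Ideal.mem_span_singleton, ← hmap, ← Ideal.Quotient.eq_zero_iff_mem]
  exact e.injective (h1.trans (map_zero e).symm)

variable {Y : Scheme.{u}}

/-- Functions extend from `D(c₁) ⊔ D(c₂)` for regular `c₁`, `c₂` with `c₂` regular modulo `c₁`. -/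
theorem ι_appTop_bijective_of_regular [IsAffine Y] {c₁ c₂ : Γ(Y, ⊤)} (h₁ : IsRegular c₁) (h₂ : IsRegular c₂)
    (h₁₂ : ∀ a, c₁ ∣ a * c₂ → c₁ ∣ a) :
    Function.Bijective (Y.basicOpen c₁ ⊔ Y.basicOpen c₂).ι.appTop := by
  let V := Y.basicOpen c₁ ⊔ Y.basicOpen c₂
  refine ⟨ι_appTop_injective h₁ le_sup_left, fun s => ?_⟩
  let r : ∀ (W : Y.Opens), Γ(Y, ⊤) →+* Γ(Y, W) := fun W => (Y.presheaf.map (homOfLE le_top).op).hom
  let t : ∀ (W : Y.Opens), W ≤ V → Γ(Y, W) := fun W hW => Y.presheaf.map (homOfLE hW).op (V.topIso.hom s)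
  have ht : ∀ (W W' : Y.Opens) (hW : W ≤ V) (hW' : W' ≤ W),
      Y.presheaf.map (homOfLE hW').op (t W hW) = t W' (hW'.trans hW) := fun W W' hW hW' => by
    simp only [t]
    rw [← CommRingCat.comp_apply, ← Functor.map_comp]
    rfl
  have hr : ∀ (W W' : Y.Opens) (hW' : W' ≤ W) (a : Γ(Y, ⊤)),
      Y.presheaf.map (homOfLE hW').op (r W a) = r W' a := fun W W' hW' a => by
    simp only [r]
    rw [← CommRingCat.comp_apply, ← Functor.map_comp]
    rfl
  have hsurj : ∀ (c : Γ(Y, ⊤)) (hW : Y.basicOpen c ≤ V),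
      ∃ (n : ℕ) (a : Γ(Y, ⊤)), t _ hW * r _ c ^ n = r _ a := fun c hW => by
    have := (isAffineOpen_top Y).isLocalization_basicOpen c
    obtain ⟨n, a, ha⟩ := IsLocalization.Away.surj c (t _ hW)
    exact ⟨n, a, ha⟩
  obtain ⟨n, a, ha⟩ := hsurj c₁ le_sup_left
  obtain ⟨m, b, hb⟩ := hsurj c₂ le_sup_right
  have hle₁ : Y.basicOpen (c₁ * c₂) ≤ Y.basicOpen c₁ := by rw [Scheme.basicOpen_mul]; exact inf_le_left
  have hle₂ : Y.basicOpen (c₁ * c₂) ≤ Y.basicOpen c₂ := by rw [Scheme.basicOpen_mul]; exact inf_le_right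
  have key : a * c₂ ^ m = b * c₁ ^ n := by
    refine res_basicOpen_injective (h₁.mul h₂) le_rfl le_rfl ?_
    change r _ (a * c₂ ^ m) = r _ (b * c₁ ^ n)
    have ea := congrArg (Y.presheaf.map (homOfLE hle₁).op) ha
    have eb := congrArg (Y.presheaf.map (homOfLE hle₂).op) hb
    rw [map_mul, map_pow, ht, hr, hr] at ea eb
    rw [map_mul, map_mul, map_pow, map_pow, ← ea, ← eb]
    ring
  have h₁₂' : ∀ (j : ℕ) (z : Γ(Y, ⊤)), c₁ ∣ z * c₂ ^ j → c₁ ∣ z := by
    intro j
    induction j with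
    | zero => intro z hz; simpa using hz
    | succ j ih =>
      intro z hz
      refine h₁₂ z (ih _ ?_)
      rwa [mul_assoc, ← pow_succ']
  have hdiv : ∀ (i : ℕ) (z w : Γ(Y, ⊤)), z * c₂ ^ m = w * c₁ ^ i → c₁ ^ i ∣ z := by
    intro i
    induction i with
    | zero => intro z w _; simp
    | succ i ih =>
      intro z w e
      obtain ⟨z', rfl⟩ := h₁₂' m z ⟨w * c₁ ^ i, by rw [e, pow_succ]; ring⟩
      rw [pow_succ']
      exact mul_dvd_mul_left c₁ (ih z' w (h₁.left (show c₁ * _ = c₁ * _ by linear_combination e)))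
  obtain ⟨e, rfl⟩ : c₁ ^ n ∣ a := hdiv n a b key
  obtain rfl : b = e * c₂ ^ m := (h₁.pow n).left (show c₁ ^ n * _ = c₁ ^ n * _ by linear_combination -key)
  refine ⟨e, ?_⟩
  apply (ConcreteCategory.bijective_of_isIso V.topIso.hom).1
  rw [← CommRingCat.comp_apply, ι_appTop_comp]
  have u₁ : IsUnit (r (Y.basicOpen c₁) c₁) := RingedSpace.isUnit_res_basicOpen _ c₁
  have u₂ : IsUnit (r (Y.basicOpen c₂) c₂) := RingedSpace.isUnit_res_basicOpen _ c₂
  have e₁ : r _ e = t (Y.basicOpen c₁) le_sup_left := by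
    rw [map_mul, map_pow] at ha
    exact ((u₁.pow n).mul_left_inj.1 (by linear_combination ha)).symm
  have e₂ : r _ e = t (Y.basicOpen c₂) le_sup_right := by
    rw [map_mul, map_pow] at hb
    exact ((u₂.pow m).mul_left_inj.1 hb).symm
  refine TopCat.Sheaf.eq_of_locally_eq₂ Y.sheaf (homOfLE le_sup_left) (homOfLE le_sup_right) le_rfl _ _ ?_ ?_
  · change Y.presheaf.map (homOfLE _).op (r V e) = t (Y.basicOpen c₁) le_sup_left
    rw [hr, e₁]
  · change Y.presheaf.map (homOfLE _).op (r V e) = t (Y.basicOpen c₂) le_sup_right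
    rw [hr, e₂]

end Groth.Agent.ThetaSLib
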