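import Groth.Agent.SchTorsor.Props
import Groth.Agent.QuotLib.AtlasProps

/-!
# Properties of the structure morphism of an object of a quotient stack
-/

set_option backward.isDefEq.respectTransparency false
set_option backward.isDefEq.respectTransparency.types false

universe u

open CategoryTheory CategoryTheory.Limits MonoidalCategory CartesianMonoidalCategory AlgebraicGeometry

namespace Groth.Agent.ThetaSLib

variable {S : Scheme.{u}} {G : Over S} [GrpObj G] {X : Over S} {aX : AlgGrp.Action G X}

/-- Properties descending along fpqc morphisms pass from the group to the torsors of a quotient stack. -/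
theorem quotObj_property (P : MorphismProperty Scheme.{u}) [P.IsStableUnderBaseChange] [IsZariskiLocalAtTarget P]
    [P.DescendsAlong (@Surjective ⊓ @Flat ⊓ @QuasiCompact)] (hG : P G.hom)
    (A : AlgSt.QuotObj Scheme.fppfPrecoverage G aX) : P A.π.left := by
  have hloc : NonAbH1.IsLocallyTrivialFor Scheme.fpqcPrecoverage (Over.mk A.π.left : Over A.base.left) := by
    obtain ⟨Rv, hR, hsec⟩ := A.loc
    exact ⟨Rv, Scheme.fppfPrecoverage_le_fpqcPrecoverage _ hR, hsec⟩
  refine IsZariskiLocalAtTarget.of_openCover A.base.left.affineCover fun i => ?_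
  obtain ⟨Z, p, hp₁, hp₂, hp₃, s, hs⟩ := SchTorsor.exists_single hloc (A.base.left.affineCover.f i)
  show P (pullback.snd A.π.left (A.base.left.affineCover.f i))
  refine MorphismProperty.of_pullback_snd_of_descendsAlong (Q := @Surjective ⊓ @Flat ⊓ @QuasiCompact)
    (g := p) ⟨⟨hp₁, hp₂⟩, hp₃⟩ ?_
  let t : Z ⟶ A.base.left := p ≫ A.base.left.affineCover.f i
  have hs' : s ≫ A.π.left = t := hs
  let T : Over S := Over.mk (t ≫ A.base.hom)
  let b : T ⟶ A.P := Over.homMk s (by
    show s ≫ A.P.hom = t ≫ A.base.hom
    rw [← Over.w A.π, ← Category.assoc, hs'])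
  have sq : IsPullback ((G ◁ b) ≫ A.act.act).left (snd G T).left A.π.left (b ≫ A.π).left :=
    ((AlgSt.isPullback_whiskerLeft b).paste_horiz A.cart).map (Over.forget S)
  have hb : (b ≫ A.π).left = t := hs'
  rw [hb] at sq
  have hXt : P (pullback.snd A.π.left t) := by
    have hGt : P (snd G T).left := QuotLib.flat_snd hG T
    rw [← sq.isoPullback_hom_snd, P.cancel_left_of_respectsIso] at hGt
    exact hGt
  rw [← pullbackLeftPullbackSndIso_hom_snd A.π.left (A.base.left.affineCover.f i) p,
    P.cancel_left_of_respectsIso]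
  exact hXt

theorem quotObj_surjective (A : AlgSt.QuotObj Scheme.fppfPrecoverage G aX) : Surjective A.π.left := by
  obtain ⟨Rv, hR, hsec⟩ := A.loc
  refine ⟨fun x => ?_⟩
  obtain ⟨Y, g, hg, w, hw⟩ := (Presieve.mem_comap_jointlySurjectivePrecoverage_iff Scheme.forget).1 hR.1 x
  obtain ⟨s, hs⟩ := hsec g hg
  exact ⟨s w, (congrArg (fun k : Y ⟶ A.base.left => k w) hs).trans hw⟩

end Groth.Agent.ThetaSLib
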