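import Groth.Agent.ThetaSLib.STTorsor
import Groth.Agent.ThetaSLib.TorsorProp
import Groth.Agent.ThetaSLib.Hartogs2
import Groth.Agent.MorLib.Birat

/-!
# The torsor with class `1/π` does not extend over the node
-/

set_option backward.isDefEq.respectTransparency false
set_option backward.isDefEq.respectTransparency.types false

universe u

open CategoryTheory CategoryTheory.Limits MonoidalCategory CartesianMonoidalCategory AlgebraicGeometry Opposite
open TopologicalSpace (Opens)

namespace Groth.Agent.ThetaSLib.GaTorsor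

variable {R : Type u} [CommRing R] {π : R}

/-- The total space of the torsor is affine when both charts are. -/
theorem isAffine_opens (D : Charts π) (h₁ : IsAffineOpen D.T₁) (h₂ : IsAffineOpen D.T₂) :
    IsAffine (opens D).toScheme := by
  let f := pullback.fst D.T.hom (eHom π)
  let g := pullback.snd D.T.hom (eHom π)
  let u₀ : Γ(prod D, ⊤) := g.appTop (eFn π (uE π))
  have : IsAffineHom f := MorphismProperty.pullback_fst _ _ inferInstance
  let A₁ := f ⁻¹ᵁ D.T₁
  let A₂ := f ⁻¹ᵁ D.T₂
  let W := opens D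
  have hW : W = (A₁ ⊓ (prod D).basicOpen (u₀ + 1)) ⊔ (A₂ ⊓ (prod D).basicOpen u₀) := rfl
  have hrel : u₀ * (u₀ + 1) = f.appTop (structMap D.T.hom π) * g.appTop (eFn π (vE π)) := by
    rw [eSch_rel, ← pullback.condition]
    simp [structMap, f, g]
  have hboth : (prod D).basicOpen u₀ ⊓ (prod D).basicOpen (u₀ + 1) ≤ A₁ ⊓ A₂ := by
    rw [← Scheme.basicOpen_mul, hrel, Scheme.basicOpen_mul, ← Scheme.preimage_basicOpen_top, ← D.inf_eq,
      Scheme.Hom.preimage_inf]
    exact inf_le_left
  have e₁ : W ⊓ (prod D).basicOpen (u₀ + 1) = A₁ ⊓ (prod D).basicOpen (u₀ + 1) := by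
    rw [hW]
    refine le_antisymm (fun x hx => ?_) (le_inf le_sup_left inf_le_right)
    rcases Opens.mem_sup.1 hx.1 with h | h
    · exact h
    · exact ⟨(hboth ⟨h.2, hx.2⟩).1, hx.2⟩
  have e₂ : W ⊓ (prod D).basicOpen u₀ = A₂ ⊓ (prod D).basicOpen u₀ := by
    rw [hW]
    refine le_antisymm (fun x hx => ?_) (le_inf le_sup_right inf_le_right)
    rcases Opens.mem_sup.1 hx.1 with h | h
    · exact ⟨(hboth ⟨hx.2, h.2⟩).2, hx.2⟩
    · exact h
  have aff : ∀ (A : (prod D).Opens), IsAffineOpen A → ∀ c : Γ(prod D, ⊤),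
      W ⊓ (prod D).basicOpen c = A ⊓ (prod D).basicOpen c →
      IsAffineOpen (W.toScheme.basicOpen (W.ι.appTop c)) := by
    intro A hA c hc
    have := hA.basicOpen ((prod D).presheaf.map (homOfLE (le_top : A ≤ ⊤)).op c)
    rw [Scheme.basicOpen_res, ← hc] at this
    rw [← Scheme.preimage_basicOpen_top]
    refine (W.ι.isAffineOpen_iff_of_isOpenImmersion).1 ?_
    rw [Scheme.Hom.image_preimage_eq_opensRange_inf, Scheme.Opens.opensRange_ι]
    exact this
  refine isAffine_of_isAffineOpen_basicOpen (X := W.toScheme)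
    {W.ι.appTop (u₀ + 1), W.ι.appTop u₀} ?_ ?_
  · rw [Ideal.eq_top_iff_one, Ideal.mem_span_pair]
    exact ⟨1, -1, by rw [map_add, map_one]; ring⟩
  · rintro i (rfl | rfl)
    · exact aff A₁ (h₁.preimage f) _ e₁
    · exact aff A₂ (h₂.preimage f) _ e₂

local notation "G" => ThetaS.Gm R
local notation "X" => ThetaS.STSch R π

variable (R π) in
/-- The complement of the node. -/
noncomputable abbrev puncOpen : (X).left.Opens :=
  (X).left.basicOpen (fn (ThetaS.sFn R π)) ⊔ (X).left.basicOpen (fn (ThetaS.tFn R π))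

variable (R π) in
/-- The complement of the node, over `Spec R`. -/
noncomputable abbrev puncOver : Over (Spec (CommRingCat.of R)) := Over.mk ((puncOpen R π).ι ≫ (X).hom)

variable (R π) in
/-- The inclusion. -/
noncomputable abbrev puncι : puncOver R π ⟶ X := Over.homMk (puncOpen R π).ι rfl

variable (R π) in
/-- The trivial torsor on the complement of the node. -/
noncomputable abbrev puncTriv : AlgSt.QuotObj Scheme.fppfPrecoverage G (ThetaS.stAction R π) :=
  QuotLib.triv Scheme.fppfPrecoverage G (ThetaS.stAction R π) (puncι R π)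

theorem missesNode_puncTriv : ThetaS.MissesNode (puncTriv R π) := by
  show (puncTriv R π).P.left.basicOpen _ ⊔ (puncTriv R π).P.left.basicOpen _ = ⊤
  rw [← Scheme.preimage_basicOpen_top, ← Scheme.preimage_basicOpen_top]
  have e : (puncTriv R π).φ.left = (G ◁ puncι R π).left ≫ (ThetaS.stAction R π).act.left := rfl
  rw [e, Scheme.Hom.comp_preimage, Scheme.Hom.comp_preimage, stable_s, stable_t, ← Scheme.Hom.comp_preimage,
    ← Scheme.Hom.comp_preimage, ← Over.comp_left, whiskerLeft_snd, ← Scheme.Hom.preimage_sup,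
    Over.comp_left, Scheme.Hom.comp_preimage]
  exact (congrArg _ (Scheme.Opens.ι_preimage_self _)).trans (Scheme.Hom.preimage_top _)

theorem chart₁_puncTriv :
    chart₁ (puncTriv R π) = (puncOpen R π).ι ⁻¹ᵁ (X).left.basicOpen (fn (ThetaS.sFn R π)) := by
  have h := congrArg (fun V => (QuotLib.sec G (puncOver R π)).left ⁻¹ᵁ V) (chart₁_spec (puncTriv R π))
  have e₁ : QuotLib.sec G (puncOver R π) ≫ (puncTriv R π).π = 𝟙 _ := lift_snd _ _
  have e₂ := QuotLib.sec_φ (K := Scheme.fppfPrecoverage) (aX := ThetaS.stAction R π) (puncι R π)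
  rw [← Scheme.Hom.comp_preimage, ← Scheme.Hom.comp_preimage, ← Over.comp_left, ← Over.comp_left, e₁, e₂] at h
  exact h

theorem chart₂_puncTriv :
    chart₂ (puncTriv R π) = (puncOpen R π).ι ⁻¹ᵁ (X).left.basicOpen (fn (ThetaS.tFn R π)) := by
  have h := congrArg (fun V => (QuotLib.sec G (puncOver R π)).left ⁻¹ᵁ V) (chart₂_spec (puncTriv R π))
  have e₁ : QuotLib.sec G (puncOver R π) ≫ (puncTriv R π).π = 𝟙 _ := lift_snd _ _
  have e₂ := QuotLib.sec_φ (K := Scheme.fppfPrecoverage) (aX := ThetaS.stAction R π) (puncι R π)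
  rw [← Scheme.Hom.comp_preimage, ← Scheme.Hom.comp_preimage, ← Over.comp_left, ← Over.comp_left, e₁, e₂] at h
  exact h

theorem isAffine_punc_torsor : IsAffine (opens (charts (puncTriv R π) missesNode_puncTriv)).toScheme := by
  refine isAffine_opens _ ?_ ?_
  · show IsAffineOpen (chart₁ (puncTriv R π))
    rw [chart₁_puncTriv]
    exact ((isAffineOpen_top (X).left).basicOpen _).preimage_of_isOpenImmersion _
      (le_sup_left.trans (Scheme.Opens.opensRange_ι _).ge)
  · show IsAffineOpen (chart₂ (puncTriv R π))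
    rw [chart₂_puncTriv]
    exact ((isAffineOpen_top (X).left).basicOpen _).preimage_of_isOpenImmersion _
      (le_sup_right.trans (Scheme.Opens.opensRange_ι _).ge)

theorem puncOpen_ne_top (hπ : ¬ IsUnit π) : puncOpen R π ≠ ⊤ := by
  intro htop
  let I := Ideal.span {π}
  have : Nontrivial (R ⧸ I) :=
    Ideal.Quotient.nontrivial_iff.2 (fun e => hπ (Ideal.span_singleton_eq_top.1 e))
  let φ : ThetaS.STRing R π →ₐ[R] R ⧸ I := ThetaS.stPt 0 0 (by
    rw [zero_mul, Ideal.Quotient.algebraMap_eq, Ideal.Quotient.eq_zero_iff_mem.2 (Ideal.mem_span_singleton_self π)])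
  have h := congrArg (fun V => (CoactBr.pt φ).left ⁻¹ᵁ V) htop
  rw [puncOpen, preimage_pt, ThetaS.stPt_sFn, ThetaS.stPt_tFn, Scheme.Hom.preimage_top] at h
  have h0 : fn (R := R) (0 : R ⧸ I) = 0 := map_zero _
  rw [h0, Scheme.basicOpen_zero, bot_sup_eq] at h
  have : Nonempty (CoactBr.sp R (R ⧸ I)).left :=
    inferInstanceAs (Nonempty (Spec (CommRingCat.of (R ⧸ I))))
  obtain ⟨x⟩ := this
  exact (show x ∈ (⊥ : (CoactBr.sp R (R ⧸ I)).left.Opens) by rw [h]; trivial)

variable [IsDomain R] [IsDiscreteValuationRing R]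

theorem isRegular_of_flat {C B : Type u} [CommRing C] [IsDomain C] [CommRing B] [Algebra C B] [Module.Flat C B]
    {c : C} (hc : c ≠ 0) : IsRegular (algebraMap C B c) := by
  have h : IsSMulRegular B (algebraMap C B c) := IsSMulRegular.of_flat (IsSMulRegular.of_right_eq_zero_of_smul fun x hx =>
    (mul_eq_zero.1 hx).resolve_left hc)
  have hl : IsLeftRegular (algebraMap C B c) := fun a b e => h (by simpa using e)
  exact ⟨hl, hl.right_of_commute fun x => mul_comm _ x⟩

/-- No affine flat surjective scheme over the two-branched curve restricts to the torsor off the node. -/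
theorem false_of_extension (hπ : Irreducible π) {P W : Scheme.{u}} (p : P ⟶ (X).left) [IsAffineHom p] [Flat p]
    [Surjective p] [IsAffine W] (j : W ⟶ P) [IsOpenImmersion j] (hj : j.opensRange = p ⁻¹ᵁ puncOpen R π) :
    False := by
  have := isDomain_STRing hπ.ne_zero
  have : IsAffine P := isAffine_of_isAffineHom p
  let ι := (Scheme.ΓSpecIso (CommRingCat.of (ThetaS.STRing R π))).inv
  let a : CommRingCat.of (ThetaS.STRing R π) ⟶ Γ(P, ⊤) := ι ≫ p.appTop
  algebraize [a.hom]
  have : Module.Flat (ThetaS.STRing R π) Γ(P, ⊤) := by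
    have hp : p.appTop.hom.Flat := (HasRingHomProperty.iff_of_isAffine (P := @Flat)).1 ‹_›
    exact (RingHom.Flat.of_bijective (f := ι.hom) (ConcreteCategory.bijective_of_isIso ι)).comp hp
  have ht : ThetaS.tFn R π ≠ 0 := fun e => not_sFn_dvd_tFn hπ (e ▸ dvd_zero _)
  have hdiv : ∀ c, ThetaS.sFn R π ∣ c * ThetaS.tFn R π → ThetaS.sFn R π ∣ c := fun c hc =>
    ((prime_sFn hπ).dvd_or_dvd hc).resolve_right (not_sFn_dvd_tFn hπ)
  have hbij := ι_appTop_bijective_of_regular (Y := P) (c₁ := p.appTop (fn (ThetaS.sFn R π)))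
    (c₂ := p.appTop (fn (ThetaS.tFn R π))) (isRegular_of_flat (sFn_ne_zero hπ.ne_zero)) (isRegular_of_flat ht)
    (fun b hb => dvd_mul_of_flat hdiv b hb)
  have hV : P.basicOpen (p.appTop (fn (ThetaS.sFn R π))) ⊔ P.basicOpen (p.appTop (fn (ThetaS.tFn R π))) =
      j.opensRange := by
    rw [hj, ← Scheme.preimage_basicOpen_top, ← Scheme.preimage_basicOpen_top, ← Scheme.Hom.preimage_sup]
  rw [hV] at hbij
  have : IsIso j.opensRange.ι.appTop := (ConcreteCategory.isIso_iff_bijective _).2 hbij
  have hfac : j.isoOpensRange.hom ≫ j.opensRange.ι = j := Scheme.Hom.isoOpensRange_hom_ι j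
  have : IsIso j.appTop := by rw [← hfac, Scheme.Hom.comp_appTop]; infer_instance
  have : IsIso j := MorLib.Birat.isIso_of_appTop j
  refine puncOpen_ne_top hπ.not_isUnit (Opens.ext (Set.ext fun x => ⟨fun _ => trivial, fun _ => ?_⟩))
  obtain ⟨y, rfl⟩ := p.surjective x
  have : y ∈ j.opensRange := by rw [Scheme.Hom.opensRange_of_isIso]; trivial
  rwa [hj] at this

variable {S : Scheme.{u}} (h : Spec (CommRingCat.of R) ⟶ S)

theorem not_liftsUniquely (hπ : Irreducible π) :
    ¬ LiftSq.LiftsUniquely (ThetaS.stIncl Scheme.fppfPrecoverage R π h)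
      (FibCat.toSelf (AlgSt.BG Scheme.fppfPrecoverage (Red.Ga S))) := by
  intro hl
  let top := torsorFunctor R π h
  let bot := FibCat.toSelf (ThetaS.ST Scheme.fppfPrecoverage R π h)
  have esq : BasedFunctor.comp (ThetaS.stIncl Scheme.fppfPrecoverage R π h) bot =
      BasedFunctor.comp top (FibCat.toSelf (AlgSt.BG Scheme.fppfPrecoverage (Red.Ga S))) := rfl
  obtain ⟨d⟩ := (hl ⟨top, bot, eqToIso esq⟩).1
  let b₀ : (ThetaS.stPunc Scheme.fppfPrecoverage R π h).obj := ⟨puncTriv R π, missesNode_puncTriv⟩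
  let m : puncTriv R π ⟶ QuotLib.triv Scheme.fppfPrecoverage G (ThetaS.stAction R π) (𝟙 X) :=
    (AlgSt.quotMap Scheme.fppfPrecoverage G (ThetaS.stAction R π)).map
      ⟨puncι R π, congrArg ULift.up (Category.comp_id (puncι R π))⟩
  let P := d.fn.obj (QuotLib.triv Scheme.fppfPrecoverage G (ThetaS.stAction R π) (𝟙 X))
  have eP : P.base = (Over.map h).obj X := d.fn.w_obj _
  let α : torsor (charts (puncTriv R π) missesNode_puncTriv) h ⟶ P := d.isoTop.inv.app b₀ ≫ d.fn.map m
  have hp : α.base ≫ eqToHom eP = (Over.map h).map (puncι R π) := by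
    have hm : (ThetaS.ST Scheme.fppfPrecoverage R π h).p.IsHomLift ((Over.map h).map (puncι R π)) m :=
      inferInstanceAs ((ThetaS.ST Scheme.fppfPrecoverage R π h).p.IsHomLift
        ((ThetaS.ST Scheme.fppfPrecoverage R π h).p.map m) m)
    have hm' : (AlgSt.BG Scheme.fppfPrecoverage (Red.Ga S)).p.IsHomLift ((Over.map h).map (puncι R π)) (d.fn.map m) :=
      @BasedFunctor.preserves_isHomLift _ _ _ _ d.fn _ _ _ _ _ _ hm
    have hi : (AlgSt.BG Scheme.fppfPrecoverage (Red.Ga S)).p.IsHomLift (𝟙 ((Over.map h).obj (puncOver R π)))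
        (d.isoTop.inv.app b₀) := d.isoTop.inv.isHomLift' b₀
    have h1 := IsHomLift.fac' (AlgSt.BG Scheme.fppfPrecoverage (Red.Ga S)).p ((Over.map h).map (puncι R π)) (d.fn.map m)
    have h2 := IsHomLift.fac' (AlgSt.BG Scheme.fppfPrecoverage (Red.Ga S)).p
      (𝟙 ((Over.map h).obj (puncOver R π))) (d.isoTop.inv.app b₀)
    change (d.isoTop.inv.app b₀).base = _ at h2
    change (d.fn.map m).base = _ at h1
    show ((d.isoTop.inv.app b₀).base ≫ (d.fn.map m).base) ≫ eqToHom eP = _
    rw [h1, h2]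
    simp
  let p : P.P.left ⟶ (X).left := P.π.left ≫ (eqToHom eP).left
  have hGa : IsAffineHom (Red.Ga S).hom ∧ Flat (Red.Ga S).hom := by
    have : Module.Free (ULift.{u} ℤ) (SymmetricAlgebra (ULift.{u} ℤ) (ULift.{u} ℤ)) :=
      Module.Free.of_equiv (SymmetricAlgebra.equivMvPolynomial
        (Module.Basis.singleton PUnit.{u+1} (ULift.{u} ℤ))).symm.toLinearEquiv
    have hf : Flat (Red.GaZ.{u}).hom := (HasRingHomProperty.Spec_iff (P := @Flat)).2
      (RingHom.flat_algebraMap_iff.2 (Module.Flat.of_free))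
    exact ⟨MorphismProperty.pullback_snd (P := @IsAffineHom) _ _ inferInstance,
      MorphismProperty.pullback_snd (P := @Flat) _ _ hf⟩
  have := EtFound.fpqc_isAffineHom.{u}
  have : IsAffineHom p := (MorphismProperty.cancel_right_of_respectsIso @IsAffineHom _ _).2
    (quotObj_property @IsAffineHom hGa.1 P)
  have : Flat p := (MorphismProperty.cancel_right_of_respectsIso @Flat _ _).2 (quotObj_property @Flat hGa.2 P)
  have := quotObj_surjective P
  have : Surjective p := inferInstance
  have sq : IsPullback α.top.left (proj (charts (puncTriv R π) missesNode_puncTriv) h).left p (puncOpen R π).ι := by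
    have h3 : IsPullback α.top.left (proj (charts (puncTriv R π) missesNode_puncTriv) h).left P.π.left α.base.left :=
      α.cart.map (Over.forget S)
    have h4 := congrArg CommaMorphism.left hp
    exact h3.of_iso (Iso.refl _) (Iso.refl _) (Iso.refl _) ((Over.forget S).mapIso (eqToIso eP)) (by simp) (by simp)
      (by simp [p]) (by simpa using h4)
  have : IsOpenImmersion α.top.left := MorphismProperty.of_isPullback sq.flip inferInstance
  have : IsAffine (total (charts (puncTriv R π) missesNode_puncTriv) h).left := isAffine_punc_torsor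
  refine @false_of_extension R _ π _ _ hπ P.P.left _ p ‹_› ‹_› ‹_› this α.top.left ‹_› (Opens.ext ?_)
  rw [Scheme.Hom.coe_opensRange, Scheme.Hom.coe_preimage, ← sq.isoPullback_hom_fst, Scheme.Hom.comp_base,
    TopCat.coe_comp, Set.range_comp]
  erw [(ConcreteCategory.bijective_of_isIso sq.isoPullback.hom.base).2.range_eq, Set.image_univ,
    Scheme.Pullback.range_fst, Scheme.Opens.range_ι]

end Groth.Agent.ThetaSLib.GaTorsor
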