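import Groth.Agent.AlgStLib.Faithful
import Groth.Agent.AlgStLib.Imm
import Groth.Agent.AlgSpDec.FppfLqf
import Groth.Agent.AlgSpDec.LqfScheme
import Groth.Agent.AlgSpPts.SepDescent

/-!
# The diagonal of a representable separated morphism is a closed immersion
-/

universe u

open CategoryTheory CategoryTheory.Functor CategoryTheory.Limits AlgebraicGeometry AlgSp

namespace Groth.Agent.ThetaSLib

open Groth.Agent.AlgSpLib Groth.Agent.AlgStLib Groth.Agent.AlgSpDec Groth.Agent.AlgSpPts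

variable {S : Scheme.{u}} {𝒳 𝒴 : AlgSt.Cat S}

/-- The diagonal of a representable separated morphism of algebraic stacks is a closed immersion. -/
theorem diag_closedImmersion (h𝒳 : AlgSt.IsAlgStack Scheme.fppfPrecoverage 𝒳)
    (h𝒴 : AlgSt.IsAlgStack Scheme.fppfPrecoverage 𝒴) (f : 𝒳 ⥤ᵇ 𝒴) (hrep : AlgSt.RepByAlgSp1 f)
    (hsep : AlgSt.IsSeparatedMor f) :
    AlgSt.RepByAlgSpWith (AlgSp.RepWith @IsClosedImmersion) (FibCat.diag f) := by
  intro U y
  obtain ⟨F, e, he, hp⟩ := hsep U y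
  have hff : f.toFunctor.Faithful := faithful_of_repByAlgSp1 h𝒴.isStack.1 f hrep
  have : (FibCat.diag f).toFunctor.Full := (faithful_iff_full_diag f).1 hff
  have : (FibCat.diag f).toFunctor.Faithful := faithful_diag f
  have hmono := isMono_of_full_faithful h𝒳 (isAlgStack_fp h𝒳 h𝒳 h𝒴.isStack h𝒴.diag f f) (FibCat.diag f)
  have : Mono (AlgSt.spMapOfOver (BasedFunctor.comp e (FibCat.fpFst y (FibCat.diag f)))) :=
    isMono_property hmono y e he
  refine ⟨F, e, he, ?_⟩
  obtain ⟨hs, ⟨hl, -⟩, hu⟩ := hp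
  have hr := representable_of_lqf_separated F.property (IsAlgSpace.yon_obj U) _ (locP_lqf_of_mono _ hl) hs
  exact repWith_isClosedImmersion_of_univClosed hr (repWith_of_locP (IsAlgSpace.yon_obj U) hr hl) hu

end Groth.Agent.ThetaSLib
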