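import Groth.Agent.ThetaSLib.AffineClasses
import Groth.Agent.ThetaSLib.DiagClosed

/-!
# Equality of classes of points is a closed condition for a representable separated morphism
-/

set_option backward.isDefEq.respectTransparency false
set_option backward.isDefEq.respectTransparency.types false

universe u

open CategoryTheory CategoryTheory.Functor CategoryTheory.Limits AlgebraicGeometry

namespace Groth.Agent.ThetaSLib

open Groth.Agent.FibBase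

variable {S : Scheme.{u}} {𝒳 𝒴 : AlgSt.Cat S} {f : 𝒳 ⥤ᵇ 𝒴}

/-- Over an object, the locus where two classes agree is a closed subscheme of the base. -/
theorem exists_equalizer (h𝒳 : FibCat.IsFibGrpd 𝒳.p) (h𝒴 : FibCat.IsFibGrpd 𝒴.p)
    (hfp : FibCat.IsFibGrpd (FibCat.fp f f).p)
    (hd : AlgSt.RepByAlgSpWith (AlgSp.RepWith @IsClosedImmersion) (FibCat.diag f))
    {η : 𝒴.obj} (c c' : Cls f h𝒳 η) :
    ∃ (W : Over S) (q : W ⟶ 𝒴.p.obj η) (_ : IsClosedImmersion q.left),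
      (∀ {η' : 𝒴.obj} (ψ : η' ⟶ η), pull h𝒳 h𝒴 ψ c = pull h𝒳 h𝒴 ψ c' → ∃ w, w ≫ q = 𝒴.p.map ψ) ∧
      ((∃ s, s ≫ q = 𝟙 (𝒴.p.obj η)) → c = c') := by
  induction c using Quotient.ind with
  | _ P =>
  induction c' using Quotient.ind with
  | _ P' =>
  let ηd : (FibCat.fp f f).obj := ⟨⟨P.x, P'.x, P.β.symm ≪≫ P'.β⟩, by
    change 𝒴.p.IsHomLift (𝟙 (𝒳.p.obj P.x)) (P.β.inv ≫ P'.β.hom)
    refine isHomLift_id_of_map_eq (f.w_obj _) ((f.w_obj _).trans (P'.base.trans P.base.symm)) ?_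
    rw [Functor.map_comp, ← IsIso.Iso.inv_hom P.β, Functor.map_inv, P'.map_β]
    simp [P.map_β]⟩
  obtain ⟨W, q, hq, E, hEq, hEi, hEs, hEn⟩ := exists_classes_scheme h𝒳 hfp hd ηd
  refine ⟨W, q ≫ eqToHom P.base, ?_, ?_, ?_⟩
  · have : IsClosedImmersion q.left := hq
    rw [Over.comp_left]
    infer_instance
  · intro η' ψ e
    obtain ⟨P₁, φ, hφ⟩ := Pt.exists_rel h𝒳 h𝒴 ψ P
    obtain ⟨P₂, hP₂⟩ := Pt.exists_rel h𝒳 h𝒴 ψ P'
    change pull h𝒳 h𝒴 ψ (P.cls h𝒳) = pull h𝒳 h𝒴 ψ (P'.cls h𝒳) at e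
    rw [pull_cls h𝒳 h𝒴 ⟨φ, hφ⟩, pull_cls h𝒳 h𝒴 hP₂] at e
    obtain ⟨φ', hφ'⟩ := Pt.Rel.comp (Quotient.exact e : Pt.Rel (𝟙 η') P₁ P₂) hP₂
    rw [Category.id_comp] at hφ'
    let m : (FibCat.diag f).obj P₁.x ⟶ ηd := ObjectProperty.homMk ⟨φ, φ', by
      change f.map φ ≫ P.β.inv ≫ P'.β.hom = 𝟙 (f.obj P₁.x) ≫ f.map φ'
      rw [hφ.f_map, hφ'.f_map]
      simp⟩
    let Q : Pt (FibCat.diag f) ((FibCat.diag f).obj P₁.x) :=
      ⟨P₁.x, Iso.refl _, IsHomLift.id rfl⟩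
    refine ⟨eqToHom P₁.base.symm ≫ E _ m (Q.cls h𝒳), ?_⟩
    rw [Category.assoc, ← Category.assoc (E _ m _), hEq]
    change eqToHom P₁.base.symm ≫ 𝒳.p.map φ ≫ eqToHom P.base = _
    rw [hφ.map_eq]
    simp
  · rintro ⟨s, hs⟩
    obtain ⟨c, -⟩ := hEs ηd (𝟙 ηd) (eqToHom P.base ≫ s) (by
      rw [CategoryTheory.Functor.map_id, Category.assoc]
      change eqToHom P.base ≫ s ≫ q = 𝟙 (𝒳.p.obj P.x)
      rw [← cancel_mono (eqToHom P.base), Category.assoc, Category.assoc, hs]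
      simp)
    induction c using Quotient.ind with
    | _ Q =>
    refine Quotient.sound ⟨Q.β.hom.hom.fst ≫ Q.β.inv.hom.snd, ?_⟩
    have h1 : Q.β.hom.hom.fst ≫ Q.β.inv.hom.fst = 𝟙 P.x :=
      congrArg (fun t : ηd ⟶ ηd => t.hom.fst) Q.β.hom_inv_id
    have h2 : f.map Q.β.inv.hom.fst ≫ P.β.inv ≫ P'.β.hom = 𝟙 (f.obj Q.x) ≫ f.map Q.β.inv.hom.snd :=
      Q.β.inv.hom.w
    rw [Category.id_comp] at h2
    show P.β.hom ≫ f.map _ = 𝟙 η ≫ P'.β.hom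
    rw [Functor.map_comp, ← h2, ← Functor.map_comp_assoc, h1, f.toFunctor.map_id]
    simp

end Groth.Agent.ThetaSLib
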