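import Groth.Prelude.Def_ThetaS
import Groth.Agent.ThetaSLib.ClassEq
import Groth.Agent.QuotLib.TrivHom

/-!
# Uniqueness of filtrations for representable separated morphisms
-/

set_option backward.isDefEq.respectTransparency false
set_option backward.isDefEq.respectTransparency.types false

universe u

open CategoryTheory CategoryTheory.Functor CategoryTheory.Limits MonoidalCategory CartesianMonoidalCategory
  AlgebraicGeometry
open scoped Polynomial

namespace Groth.Agent.ThetaSLib

open Groth.Agent.FibBase Groth.Agent.QuotLib Groth.Agent.AlgStLib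

variable {R : Type u} [CommRing R]

theorem coeff_linePt_zPow (p : R[X]) (n : ℕ) :
    (ThetaS.linePt (ThetaS.zPow R 1) p).coeff (Multiplicative.ofAdd (n : ℤ)) = p.coeff n := by
  classical
  change (Polynomial.aeval (ThetaS.zPow R 1) p).coeff _ = _
  induction p using Polynomial.induction_on' with
  | add a b ha hb => simp [ha, hb]
  | monomial m r =>
    rw [Polynomial.aeval_monomial, MonoidAlgebra.single_pow, one_pow, ← ofAdd_nsmul, nsmul_one, ← Algebra.smul_def,
      MonoidAlgebra.smul_single, smul_eq_mul, mul_one, MonoidAlgebra.coeff_single, Finsupp.single_apply,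
      Polynomial.coeff_monomial]
    simp

theorem linePt_zPow_injective : Function.Injective (ThetaS.linePt (ThetaS.zPow R 1) : R[X] → ThetaS.Lau R) :=
  fun p q e => Polynomial.ext fun n => by rw [← coeff_linePt_zPow, e, coeff_linePt_zPow]

variable (R) {S : Scheme.{u}} (h : Spec (CommRingCat.of R) ⟶ S) {𝒳 𝒴 : AlgSt.Cat S} (f : 𝒳 ⥤ᵇ 𝒴)

local notation "G" => ThetaS.Gm R
local notation "L" => ThetaS.Line R

/-- For representable separated morphisms there is at most one dotted arrow against `1 : Spec R ⟶ Θ_R`. -/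
theorem liftsUnique_thetaOne (h𝒳 : AlgSt.IsAlgStack Scheme.fppfPrecoverage 𝒳)
    (h𝒴 : AlgSt.IsAlgStack Scheme.fppfPrecoverage 𝒴) (hrep : AlgSt.RepByAlgSp1 f)
    (hsep : AlgSt.IsSeparatedMor f) :
    LiftSq.LiftsUnique (ThetaS.thetaOne Scheme.fppfPrecoverage R h) f := by
  have := faithful_of_repByAlgSp1 h𝒴.isStack.1 f hrep
  have hd := diag_closedImmersion h𝒳 h𝒴 f hrep hsep
  have hfp := (isAlgStack_fp h𝒳 h𝒳 h𝒴.isStack h𝒴.diag f f).isStack.1
  have hX := h𝒳.isStack.1
  have hY := h𝒴.isStack.1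
  intro sq
  refine uniqLift_of_cls_eq (h𝒳 := hX) sq fun d d' => ?_
  let c := fun b => (liftPt d b).cls hX
  let c' := fun b => (liftPt d' b).cls hX
  show ∀ b, c b = c' b
  have hc : ∀ {b' b} (φ : b' ⟶ b), pull hX hY (sq.bot.map φ) (c b) = c b' :=
    fun φ => pull_cls hX hY (liftPt_rel d φ)
  have hc' : ∀ {b' b} (φ : b' ⟶ b), pull hX hY (sq.bot.map φ) (c' b) = c' b' :=
    fun φ => pull_cls hX hY (liftPt_rel d' φ)
  have hb : ∀ b, 𝒴.p.obj (sq.bot.obj b) = (Over.map h).obj b.base := fun b => sq.bot.w_obj b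
  have hm : ∀ {b' b} (φ : b' ⟶ b), 𝒴.p.map (sq.bot.map φ) =
      eqToHom (hb b') ≫ (Over.map h).map φ.base ≫ eqToHom (hb b).symm := fun φ => Functor.congr_hom sq.bot.w φ
  have hj : ∀ a, c ((ThetaS.thetaOne Scheme.fppfPrecoverage R h).obj a) =
      c' ((ThetaS.thetaOne Scheme.fppfPrecoverage R h).obj a) := fun a =>
    (Quotient.sound (liftPt_rel_topPt d a)).trans (Quotient.sound (liftPt_rel_topPt d' a)).symm
  let b₀ : AlgSt.QuotObj Scheme.fppfPrecoverage G (ThetaS.lineAction R) :=
    triv Scheme.fppfPrecoverage G (ThetaS.lineAction R) (𝟙 L)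
  let x₁ : G ⟶ L := CoactBr.pt (ThetaS.linePt (ThetaS.zPow R 1))
  let bU : AlgSt.QuotObj Scheme.fppfPrecoverage G (ThetaS.lineAction R) :=
    triv Scheme.fppfPrecoverage G (ThetaS.lineAction R) x₁
  have hU : c bU = c' bU := by
    let a : (ThetaS.baseSt h).obj := (G : Over (Spec (CommRingCat.of R)))
    let x' : G ⟶ L := Over.homMk ((G).hom ≫ ThetaS.onePt R)
      (by rw [Category.assoc, ThetaS.onePt_hom, Category.comp_id])
    have hx' : x' = CoactBr.pt (ThetaS.linePt (1 : ThetaS.Lau R)) := by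
      have e : (ThetaS.linePt (1 : ThetaS.Lau R)) = (Algebra.ofId R (ThetaS.Lau R)).comp (ThetaS.lineOne R) :=
        Polynomial.algHom_ext (by simp [ThetaS.linePt, MonoidAlgebra.one_def])
      rw [e, CoactBr.pt_comp]
      apply Over.OverMorphism.ext
      show (G).hom ≫ ThetaS.onePt R = _
      rw [Over.comp_left]
      congr 1
    have hg : lift (CoactBr.pt (AlgHom.id R (ThetaS.Lau R))) (𝟙 G ≫ x') ≫ (ThetaS.lineAction R).act = x₁ := by
      rw [Category.id_comp, hx', ThetaS.lineAction_pt, mul_one]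
      rfl
    obtain ⟨m, -, -⟩ := (hom_triv_iff (K := Scheme.fppfPrecoverage) (aX := ThetaS.lineAction R) (𝟙 G) x₁ x').2
      (CoactBr.pt (AlgHom.id R (ThetaS.Lau R))) hg
    have e : c (triv Scheme.fppfPrecoverage G (ThetaS.lineAction R) x') =
        c' (triv Scheme.fppfPrecoverage G (ThetaS.lineAction R) x') := hj a
    rw [← hc (b' := bU) m, ← hc' (b' := bU) m, e]
  have h0 : c b₀ = c' b₀ := by
    obtain ⟨W, q, hq, hfac, hsec⟩ := exists_equalizer hX hY hfp hd (c b₀) (c' b₀)
    let m : bU ⟶ b₀ := (AlgSt.quotMap Scheme.fppfPrecoverage G (ThetaS.lineAction R)).map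
      ((AlgSt.ofOverCat L).map (Over.homMk x₁ (Category.comp_id x₁) : Over.mk x₁ ⟶ Over.mk (𝟙 L)))
    obtain ⟨w, hw⟩ := hfac (sq.bot.map m) (by rw [hc, hc', hU])
    let q' : W ⟶ (Over.map h).obj L := q ≫ eqToHom (hb b₀)
    have : IsClosedImmersion q'.left := by
      show IsClosedImmersion (q ≫ eqToHom (hb b₀)).left
      rw [Over.comp_left]; infer_instance
    have : IsAffine ((Over.map h).obj L).left := inferInstanceAs (IsAffine (Spec (CommRingCat.of R[X])))
    have hfacl : (eqToHom (hb bU).symm ≫ w) ≫ q' = (Over.map h).map x₁ := by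
      simp only [q', Category.assoc, reassoc_of% hw, hm]
      simp
      rfl
    have hinj : Function.Injective q'.left.appTop := by
      intro u v e
      have h2 := congrArg (fun k => k.left.appTop) hfacl
      simp only [Over.comp_left, Scheme.Hom.comp_appTop] at h2
      have h3 : ((Over.map h).map x₁).left.appTop u = ((Over.map h).map x₁).left.appTop v := by
        rw [← h2]
        simp only [CommRingCat.comp_apply, e]
      have hx : Function.Injective x₁.left.appTop := by
        intro u v e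
        obtain ⟨p, rfl⟩ := (ConcreteCategory.bijective_of_isIso (Scheme.ΓSpecIso (CommRingCat.of R[X])).inv).2 u
        obtain ⟨p', rfl⟩ := (ConcreteCategory.bijective_of_isIso (Scheme.ΓSpecIso (CommRingCat.of R[X])).inv).2 v
        have hn : ∀ p : R[X], x₁.left.appTop ((Scheme.ΓSpecIso (CommRingCat.of R[X])).inv p) =
            (Scheme.ΓSpecIso (CommRingCat.of (ThetaS.Lau R))).inv (ThetaS.linePt (ThetaS.zPow R 1) p) := fun p => by
          change (Spec.map (CommRingCat.ofHom _)).appTop _ = _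
          rw [← CommRingCat.comp_apply, ← Scheme.ΓSpecIso_inv_naturality]
          rfl
        rw [hn, hn] at e
        rw [linePt_zPow_injective ((ConcreteCategory.bijective_of_isIso
          (Scheme.ΓSpecIso (CommRingCat.of (ThetaS.Lau R))).inv).1 e)]
      exact hx h3
    have : IsIso q'.left := IsClosedImmersion.isIso_of_injective_of_isAffine hinj
    have : IsIso q' := (Over.isoMk (asIso q'.left) (Over.w q')).isIso_hom
    refine hsec ⟨eqToHom (hb b₀) ≫ inv q', ?_⟩
    rw [← cancel_mono (eqToHom (hb b₀)), Category.assoc, Category.assoc, IsIso.inv_hom_id]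
    simp
  have htriv : ∀ {T : Over (Spec (CommRingCat.of R))} (x : T ⟶ L),
      c (triv Scheme.fppfPrecoverage G (ThetaS.lineAction R) x) =
        c' (triv Scheme.fppfPrecoverage G (ThetaS.lineAction R) x) := fun x => by
    let m : triv Scheme.fppfPrecoverage G (ThetaS.lineAction R) x ⟶ b₀ :=
      (AlgSt.quotMap Scheme.fppfPrecoverage G (ThetaS.lineAction R)).map
        ((AlgSt.ofOverCat L).map (Over.homMk x (Category.comp_id x) : Over.mk x ⟶ Over.mk (𝟙 L)))
    rw [← hc m, ← hc' m, h0]
  intro b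
  obtain ⟨W, q, hq, hfac, hsec⟩ := exists_equalizer hX hY hfp hd (c b) (c' b)
  obtain ⟨Rv, hR, hcov⟩ := exists_cover_triv b
  let q' : W ⟶ (Over.map h).obj b.base := q ≫ eqToHom (hb b)
  have : IsClosedImmersion q'.left := by
    show IsClosedImmersion (q ≫ eqToHom (hb b)).left
    rw [Over.comp_left]; infer_instance
  have hlift : ∀ ⦃T' : Scheme.{u}⦄ (g : T' ⟶ b.base.left), Rv g → ∃ w, w ≫ q'.left = g := by
    intro T' g hg
    obtain ⟨x, m, hmb⟩ := hcov g hg
    obtain ⟨w, hw⟩ := hfac (sq.bot.map m) (by rw [hc, hc', htriv x])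
    refine ⟨(eqToHom (hb _).symm ≫ w).left, ?_⟩
    rw [← Over.comp_left]
    simp only [q', Category.assoc, reassoc_of% hw, hm]
    simp [hmb]
  choose w hw using hlift
  have hmem : Sieve.generate Rv ∈ Scheme.fppfTopology b.base.left := Precoverage.generate_mem_toGrothendieck hR
  have hsheaf : Presieve.IsSheaf Scheme.fppfTopology (yoneda.obj W.left) :=
    GrothendieckTopology.Subcanonical.isSheaf_of_isRepresentable _
  have hcomp : Presieve.FamilyOfElements.Compatible (P := yoneda.obj W.left) (fun T' g hg => w g hg) := by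
    intro Y₁ Y₂ Z g₁ g₂ f₁ f₂ h₁ h₂ e
    show g₁ ≫ w f₁ h₁ = g₂ ≫ w f₂ h₂
    rw [← cancel_mono q'.left, Category.assoc, Category.assoc, hw, hw]
    exact e
  obtain ⟨v, hv, -⟩ := (Presieve.isSheafFor_iff_generate Rv).2 (hsheaf _ hmem) _ hcomp
  have hvq : v ≫ q'.left = 𝟙 b.base.left := by
    refine ((GrothendieckTopology.Subcanonical.isSheaf_of_isRepresentable (J := Scheme.fppfTopology)
      (yoneda.obj b.base.left)) _ hmem).isSeparatedFor.ext ?_
    rintro T' _ ⟨Z, g, k, hk, rfl⟩
    show (g ≫ k) ≫ v ≫ q'.left = (g ≫ k) ≫ 𝟙 _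
    rw [Category.assoc, Category.assoc, Category.comp_id, ← Category.assoc k, show k ≫ v = _ from hv k hk, hw]
  let v' : (Over.map h).obj b.base ⟶ W := Over.homMk v (by
    rw [← Over.w q', ← Category.assoc, hvq]; exact Category.id_comp _)
  have hv' : v' ≫ q' = 𝟙 _ := Over.OverMorphism.ext hvq
  refine hsec ⟨eqToHom (hb b) ≫ v', ?_⟩
  rw [← cancel_mono (eqToHom (hb b)), Category.assoc, Category.assoc, hv']
  simp

end Groth.Agent.ThetaSLib
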