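import Mathlib

/-!
# Functions on the union of two basic opens
-/

universe u

open CategoryTheory AlgebraicGeometry TopologicalSpace Opposite

namespace Groth.Agent.ThetaSLib

variable {Y : Scheme.{u}}

theorem ι_appTop_comp (V : Y.Opens) :
    V.ι.appTop ≫ V.topIso.hom = Y.presheaf.map (homOfLE le_top).op := by
  rw [Scheme.Opens.ι_appTop]
  exact (Y.presheaf.map_comp _ _).symm

theorem res_basicOpen_injective [IsAffine Y] {c : Γ(Y, ⊤)} (hc : IsRegular c) {V : Y.Opens}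
    (hV : V ≤ Y.basicOpen c) (hV' : Y.basicOpen c ≤ V) :
    Function.Injective (Y.presheaf.map (homOfLE (le_top : V ≤ ⊤)).op) := by
  obtain rfl : V = Y.basicOpen c := le_antisymm hV hV'
  have := (isAffineOpen_top Y).isLocalization_basicOpen c
  exact IsLocalization.injective Γ(Y, Y.basicOpen c) (M := Submonoid.powers c) (by
    rintro _ ⟨n, rfl⟩
    exact mem_nonZeroDivisors_iff_right.2 fun z hz => (hc.pow n).right.eq_iff.1 (hz.trans (zero_mul _).symm))

theorem res_injective_of_basicOpen_le [IsAffine Y] {c : Γ(Y, ⊤)} (hc : IsRegular c) {V : Y.Opens}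
    (hV : Y.basicOpen c ≤ V) : Function.Injective (Y.presheaf.map (homOfLE (le_top : V ≤ ⊤)).op) := by
  intro a b h
  refine res_basicOpen_injective hc le_rfl le_rfl ?_
  have h2 := congrArg (Y.presheaf.map (homOfLE hV).op) h
  rw [← CommRingCat.comp_apply, ← CommRingCat.comp_apply, ← Functor.map_comp] at h2
  exact h2

theorem ι_appTop_injective [IsAffine Y] {c : Γ(Y, ⊤)} (hc : IsRegular c) {V : Y.Opens}
    (hV : Y.basicOpen c ≤ V) : Function.Injective V.ι.appTop := by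
  intro a b h
  refine res_injective_of_basicOpen_le hc hV ?_
  rw [← ι_appTop_comp, CommRingCat.comp_apply, CommRingCat.comp_apply, h]

/-- Functions extend from `D(c₁) ⊔ D(c₂)` when `c₁` is prime and does not divide `c₂` in a domain. -/
theorem ι_appTop_bijective [IsAffine Y] [IsDomain Γ(Y, ⊤)] {c₁ c₂ : Γ(Y, ⊤)} (h₁ : Prime c₁)
    (h₂ : ¬ c₁ ∣ c₂) : Function.Bijective (Y.basicOpen c₁ ⊔ Y.basicOpen c₂).ι.appTop := by
  have hc₁ : c₁ ≠ 0 := h₁.ne_zero
  have hc₂ : c₂ ≠ 0 := fun h => h₂ (h ▸ dvd_zero c₁)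
  let V := Y.basicOpen c₁ ⊔ Y.basicOpen c₂
  refine ⟨ι_appTop_injective (IsRegular.of_ne_zero hc₁) le_sup_left, fun s => ?_⟩
  let r : ∀ (W : Y.Opens), Γ(Y, ⊤) →+* Γ(Y, W) := fun W => (Y.presheaf.map (homOfLE le_top).op).hom
  let t : ∀ (W : Y.Opens), W ≤ V → Γ(Y, W) := fun W hW => Y.presheaf.map (homOfLE hW).op (V.topIso.hom s)
  have ht : ∀ (W W' : Y.Opens) (hW : W ≤ V) (hW' : W' ≤ W),
      Y.presheaf.map (homOfLE hW').op (t W hW) = t W' (hW'.trans hW) := fun W W' hW hW' => by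
    simp only [t]
    rw [← CommRingCat.comp_apply, ← Functor.map_comp]
    rfl
  have hr : ∀ (W W' : Y.Opens) (hW' : W' ≤ W) (a : Γ(Y, ⊤)),
      Y.presheaf.map (homOfLE hW').op (r W a) = r W' a := fun W W' hW' a => by
    simp only [r]
    rw [← CommRingCat.comp_apply, ← Functor.map_comp]
    rfl
  have hsurj : ∀ (c : Γ(Y, ⊤)) (hW : Y.basicOpen c ≤ V),
      ∃ (n : ℕ) (a : Γ(Y, ⊤)), t _ hW * r _ c ^ n = r _ a := fun c hW => by
    have := (isAffineOpen_top Y).isLocalization_basicOpen c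
    obtain ⟨n, a, ha⟩ := IsLocalization.Away.surj c (t _ hW)
    exact ⟨n, a, ha⟩
  obtain ⟨n, a, ha⟩ := hsurj c₁ le_sup_left
  obtain ⟨m, b, hb⟩ := hsurj c₂ le_sup_right
  have hle₁ : Y.basicOpen (c₁ * c₂) ≤ Y.basicOpen c₁ := by rw [Scheme.basicOpen_mul]; exact inf_le_left
  have hle₂ : Y.basicOpen (c₁ * c₂) ≤ Y.basicOpen c₂ := by rw [Scheme.basicOpen_mul]; exact inf_le_right
  have key : a * c₂ ^ m = b * c₁ ^ n := by
    refine res_basicOpen_injective (IsRegular.of_ne_zero (mul_ne_zero hc₁ hc₂)) le_rfl le_rfl ?_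
    change r _ (a * c₂ ^ m) = r _ (b * c₁ ^ n)
    have ea := congrArg (Y.presheaf.map (homOfLE hle₁).op) ha
    have eb := congrArg (Y.presheaf.map (homOfLE hle₂).op) hb
    rw [map_mul, map_pow, ht, hr, hr] at ea eb
    rw [map_mul, map_mul, map_pow, map_pow, ← ea, ← eb]
    ring
  obtain ⟨e, rfl⟩ : c₁ ^ n ∣ a :=
    h₁.pow_dvd_of_dvd_mul_right n (fun h => h₂ (h₁.dvd_of_dvd_pow h)) ⟨b, by rw [key, mul_comm]⟩
  obtain rfl : b = e * c₂ ^ m := mul_left_cancel₀ (pow_ne_zero n hc₁) (by linear_combination -key)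
  refine ⟨e, ?_⟩
  apply (ConcreteCategory.bijective_of_isIso V.topIso.hom).1
  rw [← CommRingCat.comp_apply, ι_appTop_comp]
  have u₁ : IsUnit (r (Y.basicOpen c₁) c₁) := RingedSpace.isUnit_res_basicOpen _ c₁
  have u₂ : IsUnit (r (Y.basicOpen c₂) c₂) := RingedSpace.isUnit_res_basicOpen _ c₂
  have e₁ : r _ e = t (Y.basicOpen c₁) le_sup_left := by
    rw [map_mul, map_pow] at ha
    exact ((u₁.pow n).mul_left_inj.1 (by linear_combination ha)).symm
  have e₂ : r _ e = t (Y.basicOpen c₂) le_sup_right := by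
    rw [map_mul, map_pow] at hb
    exact ((u₂.pow m).mul_left_inj.1 hb).symm
  refine TopCat.Sheaf.eq_of_locally_eq₂ Y.sheaf (homOfLE le_sup_left) (homOfLE le_sup_right) le_rfl _ _ ?_ ?_
  · change Y.presheaf.map (homOfLE _).op (r V e) = t (Y.basicOpen c₁) le_sup_left
    rw [hr, e₁]
  · change Y.presheaf.map (homOfLE _).op (r V e) = t (Y.basicOpen c₂) le_sup_right
    rw [hr, e₂]

end Groth.Agent.ThetaSLib
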