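import Groth.Agent.ThetaSLib.Criterion
import Groth.Agent.ThetaSLib.Hartogs

/-!
# The criterion for an affine group acting on an affine scheme through unit multiples of two functions
-/

set_option backward.isDefEq.respectTransparency false
set_option backward.isDefEq.respectTransparency.types false

universe u

open CategoryTheory CategoryTheory.Limits MonoidalCategory CartesianMonoidalCategory AlgebraicGeometry Opposite
open scoped TensorProduct

namespace Groth.Agent.ThetaSLib

section General

variable {R : Type u} [CommRing R] {A C : Type u} [CommRing A] [CommRing C] [Algebra R A] [Algebra R C]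

/-- An element of `C` as a function on `Spec C` over `Spec R`. -/
noncomputable abbrev fn (c : C) : Γ((CoactBr.sp R C).left, ⊤) := (Scheme.ΓSpecIso (CommRingCat.of C)).inv c

instance isAffine_sp : IsAffine (CoactBr.sp R C).left :=
  inferInstanceAs (IsAffine (Spec (CommRingCat.of C)))

variable (R A C) in
/-- The identification of `Spec (A ⊗ C)` with the product over `Spec R`. -/
noncomputable def univPt : CoactBr.sp R (A ⊗[R] C) ⟶ CoactBr.sp R A ⊗ CoactBr.sp R C :=
  lift (CoactBr.pt Algebra.TensorProduct.includeLeft) (CoactBr.pt Algebra.TensorProduct.includeRight)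

instance isIso_univPt : IsIso (univPt R A C) := by
  letI : (algSpec (CommRingCat.of R)).Braided := braidedAlgSpec
  have h := CoactBr.lift_pt_pt (R := R) (Algebra.TensorProduct.includeLeft : A →ₐ[R] A ⊗[R] C)
    (Algebra.TensorProduct.includeRight : C →ₐ[R] A ⊗[R] C)
  rw [show Algebra.TensorProduct.lift (Algebra.TensorProduct.includeLeft : A →ₐ[R] A ⊗[R] C)
      Algebra.TensorProduct.includeRight (fun _ _ => .all _ _) = AlgHom.id R _ from by
    ext <;> simp, CoactBr.pt_id] at h
  have : IsIso (univPt R A C ≫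
      Functor.LaxMonoidal.μ (algSpec (CommRingCat.of R)) (op (.of R A)) (op (.of R C))) := by
    rw [show univPt R A C ≫ _ = 𝟙 _ from h]; infer_instance
  exact IsIso.of_isIso_comp_right _ (Functor.LaxMonoidal.μ (algSpec (CommRingCat.of R)) (op (.of R A)) (op (.of R C)))

theorem fn_pt {K : Type u} [CommRing K] [Algebra R K] (φ : C →ₐ[R] K) (c : C) :
    (CoactBr.pt φ).left.appTop (fn (R := R) c) = fn (R := R) (φ c) := by
  change (Spec.map (CommRingCat.ofHom φ.toRingHom)).appTop _ = _
  rw [← CommRingCat.comp_apply, ← Scheme.ΓSpecIso_inv_naturality]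
  rfl

theorem preimage_pt {K : Type u} [CommRing K] [Algebra R K] (φ : C →ₐ[R] K) (c₁ c₂ : C) :
    (CoactBr.pt φ).left ⁻¹ᵁ ((CoactBr.sp R C).left.basicOpen (fn c₁) ⊔ (CoactBr.sp R C).left.basicOpen (fn c₂)) =
      (CoactBr.sp R K).left.basicOpen (fn (φ c₁)) ⊔ (CoactBr.sp R K).left.basicOpen (fn (φ c₂)) := by
  rw [Scheme.Hom.preimage_sup, Scheme.preimage_basicOpen_top, Scheme.preimage_basicOpen_top, fn_pt, fn_pt]

theorem basicOpen_fn_unit_mul {K : Type u} [CommRing K] [Algebra R K] {v : K} (hv : IsUnit v) (c : K) :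
    (CoactBr.sp R K).left.basicOpen (fn (R := R) (v * c)) = (CoactBr.sp R K).left.basicOpen (fn c) := by
  have h1 : (CoactBr.sp R K).left.basicOpen (fn (R := R) v) = ⊤ :=
    Scheme.basicOpen_of_isUnit (X := (CoactBr.sp R K).left) (hv.map (Scheme.ΓSpecIso (CommRingCat.of K)).inv.hom)
  have h2 : fn (R := R) (v * c) = fn (R := R) v * fn c :=
    (Scheme.ΓSpecIso (CommRingCat.of K)).inv.hom.map_mul v c
  rw [h2, Scheme.basicOpen_mul, h1]
  exact top_inf_eq _

theorem isRegular_equiv {M N : Type*} [CommRing M] [CommRing N] (e : M ≃+* N) {c : M} (hc : IsRegular c) :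
    IsRegular (e c) := by
  refine ⟨fun a b hab => e.symm.injective (hc.left ?_), fun a b hab => e.symm.injective (hc.right ?_)⟩
  · simpa using congrArg e.symm hab
  · simpa using congrArg e.symm hab

theorem isRegular_fn {c : C} (hc : IsRegular c) : IsRegular (fn (R := R) c) :=
  isRegular_equiv (Scheme.ΓSpecIso (CommRingCat.of C)).symm.commRingCatIsoToRingEquiv hc

end General

variable {R : Type u} [CommRing R] {A C : Type u} [CommRing A] [CommRing C] [HopfAlgebra R A] [Module.Flat R A]
  [Algebra R C]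

/-- Unique lifting for affine morphisms against `[D(c₁) ∪ D(c₂)/G] ⟶ [Spec C/G]`. -/
theorem liftsUniquely_affine [IsDomain C] (aX : AlgGrp.Action (CoactBr.sp R A) (CoactBr.sp R C))
    (φa : C →ₐ[R] A ⊗[R] C) (hact : univPt R A C ≫ aX.act = CoactBr.pt φa) (c₁ c₂ : C)
    (v₁ v₂ : A ⊗[R] C) (hv₁ : IsUnit v₁) (hv₂ : IsUnit v₂)
    (hφ₁ : φa c₁ = v₁ * Algebra.TensorProduct.includeRight c₁)
    (hφ₂ : φa c₂ = v₂ * Algebra.TensorProduct.includeRight c₂)
    (hp : Prime c₁) (hnd : ¬ c₁ ∣ c₂)
    {S : Scheme.{u}} (h : Spec (CommRingCat.of R) ⟶ S)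
    (Q : AlgSt.QuotObj Scheme.fppfPrecoverage (CoactBr.sp R A) aX → Prop)
    (hQ : ∀ b, Q b ↔ b.P.left.basicOpen (b.φ.left.appTop (fn c₁)) ⊔
      b.P.left.basicOpen (b.φ.left.appTop (fn c₂)) = ⊤)
    {𝒳 𝒴 : AlgSt.Cat S} (f : 𝒳 ⥤ᵇ 𝒴) (h𝒳 : FibCat.IsFibGrpd 𝒳.p) (h𝒴 : FibCat.IsFibGrpd 𝒴.p)
    (hf : AlgSt.RepByAlgSpWith (AlgSp.RepWith @IsAffineHom) f) :
    LiftSq.LiftsUniquely
      (AlgSt.subIncl (ThetaS.overS h (AlgSt.QuotSt Scheme.fppfPrecoverage (CoactBr.sp R A) aX)) Q) f := by
  let X := CoactBr.sp R C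
  let i := univPt R A C
  have : IsIso i.left := inferInstanceAs (IsIso ((Over.forget _).map i))
  have : IsAffine (CoactBr.sp R A ⊗ X).left := IsAffine.of_isIso (inv i.left)
  have hsnd : i ≫ snd _ _ = CoactBr.pt Algebra.TensorProduct.includeRight := lift_snd _ _
  refine liftsUniquely_quot h aX (X.left.basicOpen (fn c₁) ⊔ X.left.basicOpen (fn c₂)) Q (fun b => ?_) ?_ ?_ ?_
    f h𝒳 h𝒴 hf
  · rw [hQ, Scheme.Hom.preimage_sup, Scheme.preimage_basicOpen_top, Scheme.preimage_basicOpen_top]
  · have inj : Function.Injective (fun V : (CoactBr.sp R A ⊗ X).left.Opens => i.left ⁻¹ᵁ V) :=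
      fun V V' e => TopologicalSpace.Opens.ext
        ((Function.Surjective.preimage_injective i.left.surjective) (congrArg TopologicalSpace.Opens.carrier e))
    apply inj
    dsimp only
    rw [← Scheme.Hom.comp_preimage, ← Scheme.Hom.comp_preimage, ← Over.comp_left, ← Over.comp_left, hact, hsnd,
      preimage_pt, preimage_pt, hφ₁, hφ₂, basicOpen_fn_unit_mul hv₁, basicOpen_fn_unit_mul hv₂]
  · let e := (Scheme.ΓSpecIso (CommRingCat.of C)).symm.commRingCatIsoToRingEquiv
    have : IsDomain Γ(X.left, ⊤) := e.symm.toMulEquiv.isDomain _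
    exact ι_appTop_bijective ((MulEquiv.prime_iff e.toMulEquiv).2 hp)
      fun hd => hnd ((map_dvd_iff e).1 hd)
  · have hreg : IsRegular (Algebra.TensorProduct.includeRight c₁ : A ⊗[R] C) := by
      have hl : IsLeftRegular (Algebra.TensorProduct.includeRight c₁ : A ⊗[R] C) := by
        intro a b hab
        have hinj := Module.Flat.lTensor_preserves_injective_linearMap (M := A) (LinearMap.mulLeft R c₁)
          (fun x y hxy => mul_left_cancel₀ hp.ne_zero hxy)
        have key : ∀ z : A ⊗[R] C, LinearMap.lTensor A (LinearMap.mulLeft R c₁) z =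
            Algebra.TensorProduct.includeRight c₁ * z := fun z => by
          induction z with
          | zero => simp
          | tmul x y => simp
          | add x y hx hy => rw [map_add, hx, hy, mul_add]
        exact hinj (by rw [key, key]; exact hab)
      exact ⟨hl, fun a b hab => hl (by simpa [mul_comm] using hab)⟩
    have hreg' := isRegular_fn (R := R) hreg
    rw [← fn_pt, ← hsnd, Over.comp_left, Scheme.Hom.comp_appTop, CommRingCat.comp_apply] at hreg'
    have hreg'' : IsRegular ((snd (CoactBr.sp R A) X).left.appTop (fn c₁)) := by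
      let e := (asIso i.left.appTop).commRingCatIsoToRingEquiv
      have := isRegular_equiv e.symm hreg'
      erw [e.symm_apply_apply] at this
      exact this
    exact ι_appTop_injective hreg'' (by
      rw [Scheme.Hom.preimage_sup, Scheme.preimage_basicOpen_top]; exact le_sup_left)

end Groth.Agent.ThetaSLib
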