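import Groth.Agent.ThetaSLib.FibreClasses
import Groth.Agent.AlgStLib.Descent
import Groth.Agent.AlgStLib.Yoneda

/-!
# Classes over an object are points of an affine scheme
-/

set_option backward.isDefEq.respectTransparency false
set_option backward.isDefEq.respectTransparency.types false

universe u

open CategoryTheory CategoryTheory.Functor CategoryTheory.Limits AlgebraicGeometry Opposite AlgSp

namespace Groth.Agent.ThetaSLib

open Groth.Agent.FibBase Groth.Agent.AlgStLib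

variable {S : Scheme.{u}} {𝒳 𝒴 : AlgSt.Cat S} {f : 𝒳 ⥤ᵇ 𝒴}

/-- A representation of a base change to a scheme by a scheme with property `R`. -/
theorem exists_scheme_of_repByAlgSpWith {R : MorphismProperty Scheme.{u}}
    (hf : AlgSt.RepByAlgSpWith (AlgSp.RepWith R) f) {U : Over S} (y : FibCat.overCat U ⥤ᵇ 𝒴) :
    ∃ (W : Over S) (q : W ⟶ U) (G : FibCat.fp y f ⥤ᵇ FibCat.overCat W), R q.left ∧ FibCat.IsEquivOver G ∧
      Nonempty (BasedFunctor.comp G (AlgSt.overMap q) ≅ FibCat.fpFst y f) := by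
  obtain ⟨F, e, he, ha⟩ := hf U y
  let a := AlgSt.spMapOfOver (BasedFunctor.comp e (FibCat.fpFst y f))
  have hr : Representable a := ((repWith_iff R a).1 ha).1
  let W := hr.pullback (𝟙 ((yon S).obj U))
  let q : W ⟶ U := hr.snd (𝟙 ((yon S).obj U))
  let i : (yon S).obj W ⟶ F.obj := hr.fst (𝟙 ((yon S).obj U))
  have sq : IsPullback i ((yon S).map q) a (𝟙 _) := hr.isPullback _
  have hi : IsIso i := sq.isIso_fst_of_isIso
  have hia : i ≫ a = (yon S).map q := by simpa using sq.w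
  have hq : R q.left := ha.property _ _ _ sq
  let E : FibCat.overCat W ⥤ᵇ FibCat.fp y f :=
    BasedFunctor.comp (AlgSt.ofOverCat W) (BasedFunctor.comp (AlgSt.ofSpMap i) e)
  have hE : FibCat.IsEquivOver E :=
    isEquivOver_comp (isEquivOver_ofOverCat W) (isEquivOver_comp (isEquivOver_ofSpMap i) he)
  have hm : AlgSt.spMapOfOver (BasedFunctor.comp (AlgSt.ofSpMap i) (BasedFunctor.comp e (FibCat.fpFst y f))) =
      (yon S).map q := by
    rw [spMapOfOver_comp, spHom_ofSpMap]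
    exact hia
  let t' : BasedFunctor.comp (AlgSt.ofSpMap i) (BasedFunctor.comp e (FibCat.fpFst y f)) ≅
      BasedFunctor.comp (AlgSt.ofSpMap ((yon S).map q)) (AlgSt.toOverCat U) :=
    isoSpMapOfOver _ ≪≫
      eqToIso (congrArg (fun m => BasedFunctor.comp (AlgSt.ofSpMap m) (AlgSt.toOverCat U)) hm)
  let t : BasedFunctor.comp E (FibCat.fpFst y f) ≅ AlgSt.overMap q :=
    Groth.Agent.FibBase.whiskerLeftIso (AlgSt.ofOverCat W) t' ≪≫ overMapIso q
  obtain ⟨G, hG, -, ⟨g⟩⟩ := isEquivOver_inv hE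
  exact ⟨W, q, G, hq, hG, ⟨(Groth.Agent.FibBase.whiskerLeftIso G t).symm ≪≫
    Groth.Agent.FibBase.whiskerRightIso g (FibCat.fpFst y f)⟩⟩

theorem left_eq_of_lift_id {U : Over S} {a b : Over U} {T : Over S} {k : a ⟶ b}
    [h : (Over.forget U).IsHomLift (𝟙 T) k] :
    k.left = eqToHom ((IsHomLift.domain_eq (Over.forget U) (𝟙 T) k).trans
      (IsHomLift.codomain_eq (Over.forget U) (𝟙 T) k).symm) := by
  exact map_eq_of_isHomLift_id (p := Over.forget U) h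

/-- If the base change of `f` to every scheme is a scheme with property `R`, then the classes of points over
the objects mapping to `η₀` are the points of such a scheme over the base of `η₀`. -/
theorem exists_classes_scheme (h𝒳 : FibCat.IsFibGrpd 𝒳.p) (h𝒴 : FibCat.IsFibGrpd 𝒴.p)
    {R : MorphismProperty Scheme.{u}} (hf : AlgSt.RepByAlgSpWith (AlgSp.RepWith R) f) (η₀ : 𝒴.obj) :
    ∃ (W : Over S) (q : W ⟶ 𝒴.p.obj η₀) (_ : R q.left)
      (E : ∀ (η : 𝒴.obj) (ψ : η ⟶ η₀), Cls f h𝒳 η → (𝒴.p.obj η ⟶ W)),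
      (∀ η ψ c, E η ψ c ≫ q = 𝒴.p.map ψ) ∧ (∀ η ψ, Function.Injective (E η ψ)) ∧
      (∀ η ψ (w : 𝒴.p.obj η ⟶ W), w ≫ q = 𝒴.p.map ψ → ∃ c, E η ψ c = w) ∧
      ∀ {η' η : 𝒴.obj} (g : η' ⟶ η) (ψ : η ⟶ η₀) (c : Cls f h𝒳 η),
        E η' (g ≫ ψ) (pull h𝒳 h𝒴 g c) = 𝒴.p.map g ≫ E η ψ c := by
  obtain ⟨y, e₀, he₀⟩ := exists_overCat_obj h𝒴 η₀ (U := 𝒴.p.obj η₀) rfl
  obtain ⟨W, q, G, hq, hG, ⟨t⟩⟩ := exists_scheme_of_repByAlgSpWith hf y
  have hj : ∀ (η : 𝒴.obj) (ψ : η ⟶ η₀), ∃ i : y.obj (Over.mk (𝒴.p.map ψ)) ≅ η,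
      𝒴.p.IsHomLift (𝟙 (𝒴.p.obj η)) i.hom ∧ y.map (toId (Over.mk (𝒴.p.map ψ))) ≫ e₀.hom = i.hom ≫ ψ :=
    fun η ψ => haveI : 𝒴.p.IsHomLift (Over.mk (𝒴.p.map ψ)).hom ψ := IsHomLift.map _ _
      exists_point_of_hom h𝒴 y e₀ he₀ (Over.mk (𝒴.p.map ψ)) ψ
  choose j hjl hjw using hj
  let pt : ∀ {η : 𝒴.obj} (ψ : η ⟶ η₀) (P : Pt f η), (FibCat.fp y f).obj := fun {η} ψ P =>
    ⟨⟨Over.mk (𝒴.p.map ψ), P.x, j η ψ ≪≫ P.β⟩, by
      change 𝒴.p.IsHomLift (𝟙 (𝒴.p.obj η)) ((j η ψ).hom ≫ P.β.hom)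
      have := hjl η ψ
      simpa using IsHomLift.comp 𝒴.p (𝟙 (𝒴.p.obj η)) (𝟙 (𝒴.p.obj η)) (j η ψ).hom P.β.hom⟩
  have hb : ∀ o, (G.obj o).left = o.obj.fst.left := fun o => G.w_obj o
  let w' : ∀ o : (FibCat.fp y f).obj, o.obj.fst.left ⟶ W := fun o =>
    eqToHom (hb o).symm ≫ (G.obj o).hom
  have hnat : ∀ {o o' : (FibCat.fp y f).obj} (m : o ⟶ o'), m.hom.fst.left ≫ w' o' = w' o := by
    intro o o' m
    have h1 : (G.map m).left = eqToHom (hb o) ≫ m.hom.fst.left ≫ eqToHom (hb o').symm :=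
      Functor.congr_hom G.w m
    have h2 := Over.w (G.map m)
    rw [h1] at h2
    simp only [w', ← h2, Category.assoc, eqToHom_trans_assoc, eqToHom_refl, Category.id_comp]
  have hw'q : ∀ o, w' o ≫ q = o.obj.fst.hom := by
    intro o
    have h1 := left_eq_of_lift_id (h := isoApp_lift t (a := o) rfl)
    have h2 := Over.w (isoApp t o).hom
    rw [h1] at h2
    simp only [w', Category.assoc]
    change eqToHom (hb o).symm ≫ ((AlgSt.overMap q).obj (G.obj o)).hom = _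
    erw [← h2]
    simp
    rfl
  have hmap : ∀ {η' η : 𝒴.obj} (g : η' ⟶ η) (ψ : η ⟶ η₀) {P' : Pt f η'} {P : Pt f η},
      Pt.Rel g P' P → w' (pt (g ≫ ψ) P') = 𝒴.p.map g ≫ w' (pt ψ P) := by
    intro η' η g ψ P' P hrel
    obtain ⟨φ, hφ⟩ := hrel
    let V' := Over.mk (𝒴.p.map (g ≫ ψ))
    let V := Over.mk (𝒴.p.map ψ)
    let k : V' ⟶ V := Over.homMk (𝒴.p.map g) (𝒴.p.map_comp g ψ).symm
    have hk : y.map k ≫ (j η ψ).hom = (j η' (g ≫ ψ)).hom ≫ g := by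
      have hkt : k ≫ toId V = toId V' := by
        apply Over.OverMorphism.ext
        exact (𝒴.p.map_comp g ψ).symm
      have := h𝒴.isStronglyCartesian ψ
      have : 𝒴.p.IsHomLift (𝒴.p.map g) (y.map k) := overMap_isHomLift y k
      have := hjl η ψ
      have := hjl η' (g ≫ ψ)
      have h1 : 𝒴.p.IsHomLift (𝒴.p.map g) (y.map k ≫ (j η ψ).hom) :=
        IsHomLift.comp_lift_id_right' 𝒴.p (𝒴.p.map g) (y.map k) (𝒴.p.obj η) (j η ψ).hom
      have h2 : 𝒴.p.IsHomLift (𝒴.p.map g) ((j η' (g ≫ ψ)).hom ≫ g) :=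
        IsHomLift.comp_lift_id_left' 𝒴.p (𝒴.p.obj η') (j η' (g ≫ ψ)).hom (𝒴.p.map g) g
      refine IsStronglyCartesian.ext 𝒴.p (𝒴.p.map ψ) ψ (𝒴.p.map g) ?_
      rw [Category.assoc, ← hjw η ψ, ← Category.assoc, ← y.toFunctor.map_comp, hkt, hjw, Category.assoc]
    let m : pt (g ≫ ψ) P' ⟶ pt ψ P := ObjectProperty.homMk ⟨k, φ, by
      change y.map k ≫ (j η ψ).hom ≫ P.β.hom = ((j η' (g ≫ ψ)).hom ≫ P'.β.hom) ≫ f.map φ
      rw [Category.assoc, show P'.β.hom ≫ f.map φ = g ≫ P.β.hom from hφ, reassoc_of% hk]⟩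
    exact (hnat m).symm
  refine ⟨W, q, hq, fun η ψ => Quotient.lift (fun P => w' (pt ψ P)) (fun P Q h => ?_), ?_, ?_, ?_, ?_⟩
  · have := hmap (𝟙 η) ψ (P' := P) (P := Q) h
    rw [CategoryTheory.Functor.map_id] at this
    erw [Category.id_comp, Category.id_comp] at this
    exact this
  · intro η ψ c
    induction c using Quotient.ind with
    | _ P => exact hw'q (pt ψ P)
  · intro η ψ c c'
    induction c using Quotient.ind with
    | _ P =>
    induction c' using Quotient.ind with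
    | _ P' =>
    intro h
    have h' : w' (pt ψ P) = w' (pt ψ P') := h
    have := full_of_isEquivOver hG
    let k : G.obj (pt ψ P) ⟶ G.obj (pt ψ P') :=
      Over.homMk (eqToHom ((hb (pt ψ P)).trans (hb (pt ψ P')).symm)) (by
        rw [← cancel_epi (eqToHom (hb (pt ψ P)).symm)]
        simp only [eqToHom_trans_assoc]
        exact h'.symm)
    obtain ⟨m, hm⟩ := G.toFunctor.map_surjective k
    have hleft : m.hom.fst.left = 𝟙 (𝒴.p.obj η) := by
      have h1 : (G.map m).left = eqToHom (hb _) ≫ m.hom.fst.left ≫ eqToHom (hb _).symm :=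
        Functor.congr_hom G.w m
      rw [hm] at h1
      simp only [k, Over.homMk_left] at h1
      rw [← cancel_epi (eqToHom (hb (pt ψ P))), ← cancel_mono (eqToHom (hb (pt ψ P')).symm)]
      simp only [Category.assoc, ← h1]
      erw [Category.id_comp, eqToHom_trans]
    have hfst : m.hom.fst = 𝟙 _ := Over.OverMorphism.ext hleft
    refine Quotient.sound ⟨m.hom.snd, ?_⟩
    unfold Pt.IsMap
    have w := m.hom.w
    rw [hfst] at w
    change y.map (𝟙 _) ≫ (j η ψ).hom ≫ P'.β.hom = ((j η ψ).hom ≫ P.β.hom) ≫ f.map m.hom.snd at w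
    rw [y.toFunctor.map_id, Category.id_comp, Category.assoc, cancel_epi] at w
    rw [Category.id_comp]
    exact w.symm
  · intro η ψ w hw
    obtain ⟨o, i, hi⟩ := exists_iso_over_of_isEquivOver hG (Over.mk w) (S := 𝒴.p.obj η) rfl
    have hi' : (Over.forget W).IsHomLift (𝟙 (𝒴.p.obj η)) i.hom := hi
    have hbo : o.obj.fst.left = 𝒴.p.obj η := (hb o).symm.trans (IsHomLift.domain_eq (Over.forget W) (𝟙 (𝒴.p.obj η)) i.hom)
    have hw'o : w' o = eqToHom hbo ≫ w := by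
      have h1 := left_eq_of_lift_id (h := hi')
      have h2 := Over.w i.hom
      rw [h1] at h2
      simp only [w', ← h2, Over.mk_hom, eqToHom_trans_assoc]
    have hfst : eqToHom hbo ≫ 𝒴.p.map ψ = o.obj.fst.hom := by
      rw [← hw'q o, hw'o, Category.assoc, hw]
    let l : o.obj.fst ≅ Over.mk (𝒴.p.map ψ) := Over.isoMk (eqToIso hbo) hfst
    let β : η ≅ f.obj o.obj.snd := (j η ψ).symm ≪≫ y.toFunctor.mapIso l.symm ≪≫ o.obj.iso
    have hβ : 𝒴.p.IsHomLift (𝟙 (𝒴.p.obj η)) β.hom := by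
      have := hjl η ψ
      have h1 : 𝒴.p.IsHomLift (𝟙 (𝒴.p.obj η)) (j η ψ).inv := IsHomLift.lift_id_inv 𝒴.p _ _
      have h2 : 𝒴.p.IsHomLift (eqToHom hbo.symm) (y.map l.inv) := overMap_isHomLift y l.inv
      have h3 : 𝒴.p.IsHomLift (𝟙 o.obj.fst.left) o.obj.iso.hom := o.property
      have h4 := IsHomLift.comp 𝒴.p (eqToHom hbo.symm) (𝟙 o.obj.fst.left) (y.map l.inv) o.obj.iso.hom
      have h5 := IsHomLift.comp 𝒴.p (𝟙 (𝒴.p.obj η)) (eqToHom hbo.symm ≫ 𝟙 _) (j η ψ).inv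
        (y.map l.inv ≫ o.obj.iso.hom)
      have hc : 𝒴.p.obj (f.obj o.obj.snd) = 𝒴.p.obj η :=
        (IsHomLift.codomain_eq 𝒴.p (𝟙 o.obj.fst.left) o.obj.iso.hom).trans hbo
      refine isHomLift_id_of_map_eq rfl hc ?_
      change 𝒴.p.map ((j η ψ).inv ≫ y.map l.inv ≫ o.obj.iso.hom) = _
      rw [IsHomLift.fac' 𝒴.p (𝟙 (𝒴.p.obj η) ≫ eqToHom hbo.symm ≫ 𝟙 _)
        ((j η ψ).inv ≫ y.map l.inv ≫ o.obj.iso.hom)]
      simp
    let P : Pt f η := ⟨o.obj.snd, β, hβ⟩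
    refine ⟨P.cls h𝒳, ?_⟩
    let m : o ⟶ pt ψ P := ObjectProperty.homMk ⟨l.hom, 𝟙 _, by
      change y.map l.hom ≫ (j η ψ).hom ≫ β.hom = o.obj.iso.hom ≫ f.map (𝟙 _)
      rw [f.toFunctor.map_id, Category.comp_id]
      simp only [β, Iso.trans_hom, Iso.symm_hom, Functor.mapIso_hom, Iso.hom_inv_id_assoc]
      rw [← Category.assoc, ← y.toFunctor.map_comp, Iso.hom_inv_id, y.toFunctor.map_id, Category.id_comp]⟩
    have := hnat m
    rw [hw'o] at this
    exact (cancel_epi (eqToHom hbo)).1 this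
  · intro η' η g ψ c
    induction c using Quotient.ind with
    | _ P =>
    obtain ⟨P', hP'⟩ := Pt.exists_rel h𝒳 h𝒴 g P
    change Quotient.lift _ _ (pull h𝒳 h𝒴 g (P.cls h𝒳)) = _
    rw [pull_cls h𝒳 h𝒴 hP']
    exact hmap g ψ hP'

end Groth.Agent.ThetaSLib
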