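import Mathlib.AlgebraicGeometry.Sites.Fpqc
import Mathlib.AlgebraicGeometry.Morphisms.Affine
import Groth.Agent.QuotLib.TrivHom

/-!
# Extending families of sections from an open substack of a quotient stack

A family of classes on the objects of `[X/G]` landing in a stable open `U ⊆ X`, for a functor whose values
over every object are the points of a scheme affine over the base, extends uniquely to `[X/G]` when `X` is
affine, `Γ(X) = Γ(U)` and the preimage of `U` in `G × X` is schematically dense.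
-/

set_option backward.isDefEq.respectTransparency false
set_option backward.isDefEq.respectTransparency.types false

universe w u

open CategoryTheory CategoryTheory.Limits MonoidalCategory CartesianMonoidalCategory MonObj AlgebraicGeometry

namespace Groth.Agent.ThetaSLib

open Groth.Agent.QuotLib AlgSt

theorem exists_extend_section {Y W : Scheme.{u}} [IsAffine Y] (U : Y.Opens)
    (hU : Function.Bijective U.ι.appTop) (q : W ⟶ Y) [IsAffineHom q] (σ : U.toScheme ⟶ W)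
    (hσ : σ ≫ q = U.ι) :
    ∃ σ' : Y ⟶ W, σ' ≫ q = 𝟙 Y ∧ U.ι ≫ σ' = σ := by
  have : IsAffine W := isAffine_of_isAffineHom q
  have : IsIso U.ι.appTop := (ConcreteCategory.isIso_iff_bijective U.ι.appTop).2 hU
  let σ' : Y ⟶ W := Y.isoSpec.hom ≫ Spec.map (σ.appTop ≫ inv U.ι.appTop) ≫ W.isoSpec.inv
  have hσ' : σ'.appTop = σ.appTop ≫ inv U.ι.appTop := by
    have e : Spec.map σ'.appTop = Spec.map (σ.appTop ≫ inv U.ι.appTop) := by
      rw [← cancel_epi Y.isoSpec.hom]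
      erw [Scheme.isoSpec_hom_naturality σ']
      simp [σ']
    exact Spec.map_injective e
  have h2 : U.ι ≫ σ' = σ := ext_of_isAffine (by rw [Scheme.Hom.comp_appTop, hσ']; simp)
  refine ⟨σ', ext_of_isAffine ?_, h2⟩
  rw [← cancel_mono U.ι.appTop, ← Scheme.Hom.comp_appTop, ← Category.assoc, h2, hσ]
  simp

theorem eq_of_agree_on_open {Y W : Scheme.{u}} [IsAffine Y] (U : Y.Opens)
    (hU : Function.Injective U.ι.appTop) (q : W ⟶ Y) [IsAffineHom q] (σ₁ σ₂ : Y ⟶ W)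
    (h : U.ι ≫ σ₁ = U.ι ≫ σ₂) : σ₁ = σ₂ := by
  have : IsAffine W := isAffine_of_isAffineHom q
  refine ext_of_isAffine ?_
  ext x
  have := congrArg (fun k => Scheme.Hom.appTop k x) h
  simp only [Scheme.Hom.comp_appTop, CommRingCat.comp_apply] at this
  exact hU this

variable {B : Scheme.{u}} {G : Over B} [GrpObj G] {X : Over B} {aX : AlgGrp.Action G X}


/-- The morphism of trivial torsors along `f`. -/
noncomputable def trivMap {T T' : Over B} {x : T ⟶ X} {x' : T' ⟶ X} (f : T ⟶ T') (hf : f ≫ x' = x) :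
    (triv Scheme.fppfPrecoverage G aX x) ⟶ (triv Scheme.fppfPrecoverage G aX x') :=
  (quotMap Scheme.fppfPrecoverage G aX).map ((ofOverCat X).map (Over.homMk f hf))

@[simp] theorem trivMap_base {T T' : Over B} {x : T ⟶ X} {x' : T' ⟶ X} (f : T ⟶ T') (hf : f ≫ x' = x) :
    (trivMap (aX := aX) f hf).base = f := rfl

@[simp] theorem trivMap_top {T T' : Over B} {x : T ⟶ X} {x' : T' ⟶ X} (f : T ⟶ T') (hf : f ≫ x' = x) :
    (trivMap (aX := aX) f hf).top = G ◁ f := rfl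

theorem trivMap_comp {T T' T'' : Over B} {x : T ⟶ X} {x' : T' ⟶ X} {x'' : T'' ⟶ X} (f : T ⟶ T')
    (f' : T' ⟶ T'') (hf : f ≫ x' = x) (hf' : f' ≫ x'' = x') :
    trivMap (aX := aX) f hf ≫ trivMap f' hf' = trivMap (f ≫ f') (by rw [Category.assoc, hf', hf]) :=
  QuotObj.hom_ext rfl (MonoidalCategory.whiskerLeft_comp _ _ _).symm

/-- A functor on `[X/G]` whose values over each object are the points of a scheme affine over the base. -/
structure AffineSec (Sec : AlgSt.QuotObj Scheme.fppfPrecoverage G aX → Type w) (res : ∀ {b' b : AlgSt.QuotObj Scheme.fppfPrecoverage G aX}, (b' ⟶ b) → Sec b → Sec b') : Prop where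
  res_id : ∀ {b} (c : Sec b), res (𝟙 b) c = c
  res_comp : ∀ {b'' b' b} (φ : b'' ⟶ b') (ψ : b' ⟶ b) (c : Sec b), res (φ ≫ ψ) c = res φ (res ψ c)
  rep : ∀ b₀ : AlgSt.QuotObj Scheme.fppfPrecoverage G aX, ∃ (W : Scheme.{u}) (q : W ⟶ b₀.base.left) (_ : IsAffineHom q)
    (E : ∀ b (_ : b ⟶ b₀), Sec b → (b.base.left ⟶ W)),
    (∀ b ψ c, E b ψ c ≫ q = ψ.base.left) ∧ (∀ b ψ, Function.Injective (E b ψ)) ∧
    (∀ b (ψ : b ⟶ b₀) (v : b.base.left ⟶ W), v ≫ q = ψ.base.left → ∃ c, E b ψ c = v) ∧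
    ∀ {b' b} (g : b' ⟶ b) (ψ : b ⟶ b₀) (c : Sec b), E b' (g ≫ ψ) (res g c) = g.base.left ≫ E b ψ c

variable {Sec : AlgSt.QuotObj Scheme.fppfPrecoverage G aX → Type w} {res : ∀ {b' b : AlgSt.QuotObj Scheme.fppfPrecoverage G aX}, (b' ⟶ b) → Sec b → Sec b'} (hS : AffineSec Sec @res)

include hS in
/-- Two systems of values on trivial torsors agreeing along all morphisms of trivial torsors. -/
theorem glue_unique
    (t : ∀ {T : Over B} (x : T ⟶ X), Sec ((triv Scheme.fppfPrecoverage G aX x)))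
    (ht : ∀ {T T' : Over B} {x : T ⟶ X} {x' : T' ⟶ X} (m : (triv Scheme.fppfPrecoverage G aX x) ⟶ (triv Scheme.fppfPrecoverage G aX x')), res m (t x') = t x)
    (b : AlgSt.QuotObj Scheme.fppfPrecoverage G aX) : ∃! c : Sec b, ∀ {T : Over B} (x : T ⟶ X) (ψ : (triv Scheme.fppfPrecoverage G aX x) ⟶ b), res ψ c = t x := by
  obtain ⟨W, q, hq, E, hEq, hEi, hEs, hEn⟩ := hS.rep b
  have compat : ∀ {T₁ T₂ : Over B} {x₁ : T₁ ⟶ X} {x₂ : T₂ ⟶ X} (ψ₁ : (triv Scheme.fppfPrecoverage G aX x₁) ⟶ b) (ψ₂ : (triv Scheme.fppfPrecoverage G aX x₂) ⟶ b)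
      {Z : Scheme.{u}} (g₁ : Z ⟶ T₁.left) (g₂ : Z ⟶ T₂.left), g₁ ≫ ψ₁.base.left = g₂ ≫ ψ₂.base.left →
      g₁ ≫ E _ ψ₁ (t x₁) = g₂ ≫ E _ ψ₂ (t x₂) := by
    intro T₁ T₂ x₁ x₂ ψ₁ ψ₂ Z g₁ g₂ h
    let Z' : Over B := Over.mk (g₁ ≫ T₁.hom)
    let h₁ : Z' ⟶ T₁ := Over.homMk g₁ rfl
    let h₂ : Z' ⟶ T₂ := Over.homMk g₂ (by
      show g₂ ≫ T₂.hom = g₁ ≫ T₁.hom
      rw [← show ψ₁.base.left ≫ b.base.hom = T₁.hom from Over.w ψ₁.base,
        ← show ψ₂.base.left ≫ b.base.hom = T₂.hom from Over.w ψ₂.base]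
      exact ((Category.assoc _ _ _).symm.trans (congrArg (· ≫ b.base.hom) h.symm)).trans (Category.assoc _ _ _))
    let k₁ := trivMap (aX := aX) h₁ (x := h₁ ≫ x₁) rfl ≫ ψ₁
    let k₂ := trivMap (aX := aX) h₂ (x := h₂ ≫ x₂) rfl ≫ ψ₂
    have hw : 𝟙 Z' ≫ k₂.base = k₁.base := by
      rw [Category.id_comp]
      exact Over.OverMorphism.ext h.symm
    let n : (triv Scheme.fppfPrecoverage G aX (h₁ ≫ x₁)) ⟶ (triv Scheme.fppfPrecoverage G aX (h₂ ≫ x₂)) := homLift k₂ k₁ (𝟙 Z') hw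
    have e1 : g₁ ≫ E _ ψ₁ (t x₁) = E _ k₁ (t (h₁ ≫ x₁)) := by
      rw [← ht (trivMap (aX := aX) h₁ (x := h₁ ≫ x₁) rfl), hEn]; rfl
    have e2 : g₂ ≫ E _ ψ₂ (t x₂) = E _ k₂ (t (h₂ ≫ x₂)) := by
      rw [← ht (trivMap (aX := aX) h₂ (x := h₂ ≫ x₂) rfl), hEn]; rfl
    have e3 : E _ (n ≫ k₂) (res n (t (h₂ ≫ x₂))) = n.base.left ≫ E _ k₂ (t (h₂ ≫ x₂)) := hEn n k₂ _
    rw [ht, show n ≫ k₂ = k₁ from homLift_comp _ _ _ hw] at e3
    rw [e1, e2, e3]
    exact Category.id_comp _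
  obtain ⟨R, hR, hsec⟩ := exists_cover_triv b
  choose xR hR' hbase using hsec
  let fam : Presieve.FamilyOfElements (yoneda.obj W) R := fun T' f hf => E _ (hR' f hf) (t (xR f hf))
  have hmemR : Sieve.generate R ∈ Scheme.fppfTopology b.base.left :=
    Precoverage.generate_mem_toGrothendieck hR
  have hsheaf : Presieve.IsSheaf Scheme.fppfTopology (yoneda.obj W) :=
    GrothendieckTopology.Subcanonical.isSheaf_of_isRepresentable _
  have hfam : fam.Compatible := by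
    intro Y₁ Y₂ Z g₁ g₂ f₁ f₂ h₁ h₂ e
    refine compat (hR' f₁ h₁) (hR' f₂ h₂) g₁ g₂ ?_
    rw [hbase f₁ h₁, hbase f₂ h₂]
    exact e
  obtain ⟨v, hv, hvu⟩ := (Presieve.isSheafFor_iff_generate R).2 (hsheaf _ hmemR) fam hfam
  have hvq : v ≫ q = 𝟙 b.base.left := by
    refine ((GrothendieckTopology.Subcanonical.isSheaf_of_isRepresentable (J := Scheme.fppfTopology)
      (yoneda.obj b.base.left)) _ hmemR).isSeparatedFor.ext ?_
    rintro T' _ ⟨Z, g, f, hf, rfl⟩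
    show (g ≫ f) ≫ v ≫ q = (g ≫ f) ≫ 𝟙 _
    rw [Category.assoc, Category.assoc, Category.comp_id, ← Category.assoc f, show f ≫ v = _ from hv f hf, hEq,
      hbase f hf]
    rfl
  obtain ⟨c, hc⟩ := hEs b (𝟙 b) v hvq
  refine ⟨c, ?_, ?_⟩
  · intro T x ψ
    refine hEi _ (ψ ≫ 𝟙 b) ?_
    rw [hEn, hc, Category.comp_id]
    refine ((hsheaf _ (Scheme.fppfTopology.pullback_stable ψ.base.left hmemR))).isSeparatedFor.ext ?_
    rintro Z g ⟨T', g', f, hf, hgf⟩
    show g ≫ ψ.base.left ≫ v = g ≫ E _ ψ (t x)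
    rw [← Category.assoc, ← hgf, Category.assoc, show f ≫ v = _ from hv f hf]
    exact compat (hR' f hf) ψ g' g (by rw [hbase f hf]; exact hgf)
  · intro c' hc'
    refine hEi _ (𝟙 b) ?_
    rw [hc]
    refine hvu _ fun T' f hf => ?_
    have := hEn (hR' f hf) (𝟙 b) c'
    rw [hc', Category.comp_id, hbase f hf] at this
    exact this.symm

variable (U : X.left.Opens) (Q : AlgSt.QuotObj Scheme.fppfPrecoverage G aX → Prop) (hQ : ∀ b, Q b ↔ b.φ.left ⁻¹ᵁ U = ⊤)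
  (hstab : aX.act.left ⁻¹ᵁ U = (snd G X).left ⁻¹ᵁ U)

/-- `x` lands in `U`. -/
def Lands {T : Over B} (x : T ⟶ X) : Prop := x.left ⁻¹ᵁ U = ⊤

theorem lands_comp {T T' : Over B} (f : T' ⟶ T) (x : T ⟶ X) (h : Lands U x) : Lands U (f ≫ x) := by
  unfold Lands at *
  rw [Over.comp_left, Scheme.Hom.comp_preimage, h]
  rfl

include hQ hstab in
theorem triv_mem {T : Over B} {x : T ⟶ X} (h : Lands U x) : Q ((triv Scheme.fppfPrecoverage G aX x)) := by
  rw [hQ, triv_φ, Over.comp_left, Scheme.Hom.comp_preimage, hstab, ← Scheme.Hom.comp_preimage,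
    ← Over.comp_left, whiskerLeft_snd]
  exact lands_comp U _ _ h

include hQ in
theorem lands_of_hom {b : AlgSt.QuotObj Scheme.fppfPrecoverage G aX} (hb : Q b) {T : Over B} {x : T ⟶ X} (ψ : (triv Scheme.fppfPrecoverage G aX x) ⟶ b) : Lands U x := by
  have : x = (sec G T ≫ ψ.top) ≫ b.φ := by rw [Category.assoc, ψ.wφ]; exact (sec_φ x).symm
  rw [this]
  exact lands_comp U _ _ ((hQ b).1 hb)

include hS hQ hstab in
/-- Compatible families on the objects landing in `U` extend uniquely to `[X/G]`. -/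
theorem existsUnique_extend [IsAffine X.left] [IsAffine (G ⊗ X).left]
    (hU : Function.Bijective U.ι.appTop)
    (hU' : Function.Injective ((snd G X).left ⁻¹ᵁ U).ι.appTop)
    (a : ∀ b, Q b → Sec b)
    (ha : ∀ {b' b} (φ : b' ⟶ b) (h' : Q b') (h : Q b), res φ (a b h) = a b' h') :
    ∃! s : ∀ b, Sec b, (∀ {b' b} (φ : b' ⟶ b), res φ (s b) = s b') ∧ ∀ b (h : Q b), s b = a b h := by
  obtain ⟨W, q, hq, E, hEq, hEi, hEs, hEn⟩ := hS.rep ((triv Scheme.fppfPrecoverage G aX (𝟙 X)))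
  have : IsAffine ((triv Scheme.fppfPrecoverage G aX (𝟙 X))).base.left := ‹IsAffine X.left›
  let tm : ∀ {T : Over B} (x : T ⟶ X), (triv Scheme.fppfPrecoverage G aX x) ⟶ (triv Scheme.fppfPrecoverage G aX (𝟙 X)) := fun x => trivMap x (Category.comp_id x)
  let Uo : Over B := Over.mk (U.ι ≫ X.hom)
  let jU : Uo ⟶ X := Over.homMk U.ι rfl
  have hι : Lands U jU := U.ι_preimage_self
  obtain ⟨σ', hσ'q, hσ'⟩ := exists_extend_section U hU q (E _ (tm jU) (a _ (triv_mem U Q hQ hstab hι)))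
    (hEq _ _ _)
  choose s0 hs0 using fun (T : Over B) (x : T ⟶ X) =>
    hEs _ (tm x) (x.left ≫ σ') (by rw [Category.assoc]; erw [hσ'q, Category.comp_id]; rfl)
  have hmap : ∀ {T T' : Over B} {x : T ⟶ X} {x' : T' ⟶ X} (f : T ⟶ T') (hf : f ≫ x' = x),
      res (trivMap f hf) (s0 T' x') = s0 T x := by
    intro T T' x x' f hf
    refine hEi _ (tm x) ?_
    have e := hEn (trivMap f hf) (tm x') (s0 T' x')
    have hc : trivMap f hf ≫ tm x' = tm x :=
      QuotObj.hom_ext hf ((MonoidalCategory.whiskerLeft_comp _ _ _).symm.trans (congrArg (G ◁ ·) hf))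
    rw [hc] at e
    rw [e]
    refine Eq.trans ?_ (hs0 T x).symm
    rw [hs0 T' x', trivMap_base, ← Category.assoc, ← Over.comp_left, hf]
  have hland : ∀ {T : Over B} (x : T ⟶ X) (hx : Lands U x), s0 T x = a _ (triv_mem U Q hQ hstab hx) := by
    intro T x hx
    have hr : Set.range x.left ⊆ Set.range U.ι := by
      rw [Scheme.Opens.range_ι]
      rintro _ ⟨z, rfl⟩
      show z ∈ x.left ⁻¹ᵁ U
      rw [show x.left ⁻¹ᵁ U = ⊤ from hx]
      trivial
    let l : T ⟶ Uo := Over.homMk (IsOpenImmersion.lift U.ι x.left hr) (by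
      show _ ≫ U.ι ≫ X.hom = T.hom
      rw [← Category.assoc, IsOpenImmersion.lift_fac, Over.w x])
    have hl : l ≫ jU = x := Over.OverMorphism.ext (IsOpenImmersion.lift_fac _ _ _)
    have e : s0 Uo jU = a _ (triv_mem U Q hQ hstab hι) := hEi _ (tm jU) (by rw [hs0]; exact hσ')
    rw [← hmap l hl, e, ha]
  have hm0 : ∀ (m0 : (triv Scheme.fppfPrecoverage G aX aX.act) ⟶ (triv Scheme.fppfPrecoverage G aX (snd G X))), m0.base = 𝟙 _ → res m0 (s0 _ (snd G X)) = s0 _ aX.act := by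
    intro m0 hm0
    obtain ⟨W1, q1, hq1, E1, hE1q, hE1i, hE1s, hE1n⟩ := hS.rep ((triv Scheme.fppfPrecoverage G aX aX.act))
    have : IsAffine ((triv Scheme.fppfPrecoverage G aX aX.act)).base.left := ‹IsAffine (G ⊗ X).left›
    refine hE1i _ (𝟙 _) (eq_of_agree_on_open ((snd G X).left ⁻¹ᵁ U) hU' q1 _ _ ?_)
    let Vo : Over B := Over.mk (((snd G X).left ⁻¹ᵁ U).ι ≫ (G ⊗ X).hom)
    let ιV : Vo ⟶ G ⊗ X := Over.homMk ((snd G X).left ⁻¹ᵁ U).ι rfl
    have h1 : Lands U (ιV ≫ snd G X) := by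
      show (ιV ≫ snd G X).left ⁻¹ᵁ U = ⊤
      rw [Over.comp_left, Scheme.Hom.comp_preimage]
      exact ((snd G X).left ⁻¹ᵁ U).ι_preimage_self
    have h2 : Lands U (ιV ≫ aX.act) := by
      show (ιV ≫ aX.act).left ⁻¹ᵁ U = ⊤
      rw [Over.comp_left, Scheme.Hom.comp_preimage, hstab]
      exact ((snd G X).left ⁻¹ᵁ U).ι_preimage_self
    let k := trivMap (aX := aX) ιV (x := ιV ≫ aX.act) rfl ≫ m0
    have hw : 𝟙 Vo ≫ (trivMap (aX := aX) ιV (x := ιV ≫ snd G X) rfl).base = k.base := by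
      rw [Category.id_comp]
      show ιV = ιV ≫ m0.base
      rw [hm0]; exact (Category.comp_id _).symm
    let n := homLift (trivMap (aX := aX) ιV (x := ιV ≫ snd G X) rfl) k (𝟙 Vo) hw
    have key : res (trivMap (aX := aX) ιV (x := ιV ≫ aX.act) rfl) (res m0 (s0 _ (snd G X))) =
        res (trivMap (aX := aX) ιV (x := ιV ≫ aX.act) rfl) (s0 _ aX.act) := by
      rw [hmap, ← hS.res_comp, show trivMap (aX := aX) ιV (x := ιV ≫ aX.act) rfl ≫ m0 =
        n ≫ trivMap ιV rfl from (homLift_comp _ _ _ hw).symm, hS.res_comp, hmap, hland _ h1, hland _ h2, ha]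
    have e1 := congrArg (E1 _ (trivMap (aX := aX) ιV (x := ιV ≫ aX.act) rfl ≫ 𝟙 _)) key
    rw [hE1n, hE1n] at e1
    exact e1
  have hall : ∀ {T T' : Over B} {x : T ⟶ X} {x' : T' ⟶ X} (m : (triv Scheme.fppfPrecoverage G aX x) ⟶ (triv Scheme.fppfPrecoverage G aX x')), res m (s0 T' x') = s0 T x := by
    intro T T' x x' m
    let fb : T ⟶ T' := m.base
    obtain ⟨g, hg, htop⟩ := (hom_triv_iff fb x x').1 m rfl
    obtain ⟨m0, hm0b, hm0t⟩ := (hom_triv_iff (K := Scheme.fppfPrecoverage) (aX := aX) (𝟙 (G ⊗ X)) aX.act (snd G X)).2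
      (fst G X) (by rw [Category.id_comp, lift_fst_snd, Category.id_comp])
    obtain ⟨n, hnb, hnt⟩ := (hom_triv_iff (K := Scheme.fppfPrecoverage) (aX := aX) (𝟙 T) x (fb ≫ x')).2
      g (by rw [Category.id_comp]; exact hg)
    have e1 : n ≫ trivMap fb rfl = m := by
      refine QuotObj.hom_ext ?_ ?_
      · exact (congrArg (fun k : T ⟶ T => k ≫ fb) hnb).trans (Category.id_comp fb)
      · show n.top ≫ (G ◁ fb) = m.top
        rw [hnt, htop]
        apply CartesianMonoidalCategory.hom_ext <;> simp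
    have e2 : n ≫ trivMap (lift g (fb ≫ x')) (by rw [lift_snd]) =
        trivMap (lift g (fb ≫ x')) hg ≫ m0 := by
      refine QuotObj.hom_ext ?_ ?_
      · exact ((congrArg (fun k : T ⟶ T => k ≫ lift g (fb ≫ x')) hnb).trans (Category.id_comp _)).trans
          ((Category.comp_id _).symm.trans
            (congrArg (fun k : G ⊗ X ⟶ G ⊗ X => lift g (fb ≫ x') ≫ k) hm0b.symm))
      · show n.top ≫ (G ◁ lift g (fb ≫ x')) = (G ◁ lift g (fb ≫ x')) ≫ m0.top
        rw [hnt, hm0t]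
        apply CartesianMonoidalCategory.hom_ext <;> simp [comp_mul]
    rw [← e1, hS.res_comp, hmap,
      ← hmap (x' := snd G X) (lift g (fb ≫ x')) (by rw [lift_snd]), ← hS.res_comp, e2, hS.res_comp,
      hm0 m0 hm0b, hmap]
  choose s hs hsu using glue_unique hS (fun {T} x => s0 T x) hall
  refine ⟨s, ⟨fun {b' b} φ => hsu b' _ fun x ψ => ?_, fun b hb => (hsu b _ fun x ψ => ?_).symm⟩, ?_⟩
  · rw [← hS.res_comp]; exact hs b x (ψ ≫ φ)
  · have hx := lands_of_hom U Q hQ hb ψ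
    rw [ha ψ (triv_mem U Q hQ hstab hx) hb, ← hland x hx]
  · rintro s' ⟨hn, hsa⟩
    funext b
    refine hsu b (s' b) fun x ψ => ?_
    rw [hn, ← hn (tm x)]
    refine hEi _ (tm x) ?_
    have e := hEn (tm x) (𝟙 _) (s' ((triv Scheme.fppfPrecoverage G aX (𝟙 X))))
    rw [Category.comp_id] at e
    rw [e, hs0]
    congr 1
    refine eq_of_agree_on_open U hU.1 q _ _ ?_
    rw [hσ']
    have e' := hEn (tm jU) (𝟙 _) (s' ((triv Scheme.fppfPrecoverage G aX (𝟙 X))))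
    rw [Category.comp_id, hn, hsa _ (triv_mem U Q hQ hstab hι)] at e'
    exact e'.symm

end Groth.Agent.ThetaSLib
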