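import Groth.Prelude.Def_ThetaS
import Groth.Agent.ThetaSLib.AffineClasses
import Groth.Agent.ThetaSLib.QuotExtend

/-!
# Affine morphisms lift uniquely against a codimension two open substack of a quotient stack
-/

set_option backward.isDefEq.respectTransparency false
set_option backward.isDefEq.respectTransparency.types false

universe u

open CategoryTheory CategoryTheory.Functor CategoryTheory.Limits MonoidalCategory CartesianMonoidalCategory
  AlgebraicGeometry AlgSp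

namespace Groth.Agent.ThetaSLib

open Groth.Agent.FibBase Groth.Agent.AlgStLib

variable {B S : Scheme.{u}} (h : B ⟶ S) {G : Over B} [GrpObj G] {X : Over B} (aX : AlgGrp.Action G X)

/-- Representable affine morphisms lift uniquely against `[U/G] ⟶ [X/G]`. -/
theorem liftsUniquely_quot [IsAffine X.left] [IsAffine (G ⊗ X).left] (U : X.left.Opens)
    (Q : AlgSt.QuotObj Scheme.fppfPrecoverage G aX → Prop)
    (hQ : ∀ b, Q b ↔ b.φ.left ⁻¹ᵁ U = ⊤) (hstab : aX.act.left ⁻¹ᵁ U = (snd G X).left ⁻¹ᵁ U)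
    (hU : Function.Bijective U.ι.appTop)
    (hU' : Function.Injective ((snd G X).left ⁻¹ᵁ U).ι.appTop)
    {𝒳 𝒴 : AlgSt.Cat S} (f : 𝒳 ⥤ᵇ 𝒴) (h𝒳 : FibCat.IsFibGrpd 𝒳.p) (h𝒴 : FibCat.IsFibGrpd 𝒴.p)
    (hf : AlgSt.RepByAlgSpWith (AlgSp.RepWith @IsAffineHom) f) :
    LiftSq.LiftsUniquely
      (AlgSt.subIncl (ThetaS.overS h (AlgSt.QuotSt Scheme.fppfPrecoverage G aX)) Q) f := by
  have := faithful_of_repByAlgSp1 h𝒴 f (repByAlgSp1_of_repByAlgSpWith hf)
  refine liftsUniquely_of_sections (h𝒳 := h𝒳) (h𝒴 := h𝒴) _ fun bot a ha => ?_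
  have hS : AffineSec (fun b => Cls f h𝒳 (bot.obj b)) (fun {b' b} φ => pull h𝒳 h𝒴 (bot.map φ)) := by
    refine ⟨fun {b} c => ?_, fun {b'' b' b} φ ψ c => ?_, fun b₀ => ?_⟩
    · rw [bot.toFunctor.map_id]; exact pull_id h𝒳 h𝒴 c
    · rw [bot.toFunctor.map_comp]; exact pull_comp h𝒳 h𝒴 _ _ c
    obtain ⟨W, q, hq, E, hEq, hEi, hEs, hEn⟩ := exists_classes_scheme h𝒳 h𝒴 hf (bot.obj b₀)
    have hb : ∀ b, 𝒴.p.obj (bot.obj b) = (Over.map h).obj b.base := fun b => bot.w_obj b
    have hm : ∀ {b' b} (ψ : b' ⟶ b), 𝒴.p.map (bot.map ψ) =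
        eqToHom (hb b') ≫ (Over.map h).map ψ.base ≫ eqToHom (hb b).symm := fun ψ =>
      Functor.congr_hom bot.w ψ
    have : IsAffineHom q.left := hq
    refine ⟨W.left, q.left ≫ (eqToHom (hb b₀)).left, inferInstance,
      fun b ψ c => (eqToHom (hb b).symm).left ≫ (E _ (bot.map ψ) c).left, ?_, ?_, ?_, ?_⟩
    · intro b ψ c
      rw [Category.assoc, ← Category.assoc (E _ (bot.map ψ) c).left, ← Over.comp_left, hEq, hm,
        ← Over.comp_left, ← Over.comp_left]
      simp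
    · intro b ψ c c' e
      refine hEi _ (bot.map ψ) (Over.OverMorphism.ext ?_)
      exact (cancel_epi (eqToHom (hb b).symm).left).1 e
    · intro b ψ v hv
      have hW : v ≫ W.hom = ((Over.map h).obj b.base).hom := by
        rw [← Over.w q, ← Over.w (eqToHom (hb b₀)), ← Category.assoc q.left, ← Category.assoc v, hv]
        exact Over.w ((Over.map h).map ψ.base)
      let w : (Over.map h).obj b.base ⟶ W := Over.homMk v hW
      have hw : (eqToHom (hb b) ≫ w) ≫ q = 𝒴.p.map (bot.map ψ) := by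
        rw [hm, Category.assoc, cancel_epi, ← cancel_mono (eqToHom (hb b₀)), Category.assoc, Category.assoc]
        apply Over.OverMorphism.ext
        simp only [Over.comp_left, w, Over.homMk_left]
        rw [hv, ← Over.comp_left, eqToHom_trans, eqToHom_refl]
        exact (Category.comp_id _).symm
      obtain ⟨c, hc⟩ := hEs _ (bot.map ψ) _ hw
      refine ⟨c, ?_⟩
      show (eqToHom (hb b).symm).left ≫ (E _ (bot.map ψ) c).left = v
      rw [hc, ← Over.comp_left, eqToHom_trans_assoc]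
      simp [w]
    · intro b' b g ψ c
      show (eqToHom (hb b').symm).left ≫ (E _ (bot.map (g ≫ ψ)) (pull h𝒳 h𝒴 (bot.map g) c)).left =
        g.base.left ≫ (eqToHom (hb b).symm).left ≫ (E _ (bot.map ψ) c).left
      rw [bot.toFunctor.map_comp, hEn, hm, ← Over.comp_left]
      simp only [Category.assoc, eqToHom_trans_assoc, eqToHom_refl, Category.id_comp]
      rfl
  obtain ⟨s, ⟨hs, hsa⟩, hu⟩ := existsUnique_extend hS U Q hQ hstab hU hU'
    (fun b hb => a ⟨b, hb⟩) (fun {b' b} φ h' h'' => ha (x' := ⟨b', h'⟩) (x := ⟨b, h''⟩) (ObjectProperty.homMk φ))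
  exact ⟨s, ⟨fun b' b φ => hs φ, fun x => hsa x.obj x.property⟩,
    fun s' ⟨h1, h2⟩ => hu s' ⟨fun {b' b} φ => h1 φ, fun b hb => h2 ⟨b, hb⟩⟩⟩

end Groth.Agent.ThetaSLib
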