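import Groth.Prelude.Def_LiftSq
import Groth.Agent.FibBase.Basic

/-!
# Isomorphism classes in the fibres of a faithful functor, and dotted arrows

For a faithful `f : 𝒳 ⟶ 𝒴` of categories fibred in groupoids over `C`, an object `η` of `𝒴` has a set of
classes of pairs `(x, β : η ≅ f x)`; this is a presheaf on `𝒴`, and dotted arrows of a square with right side
`f` are its compatible systems of sections.
-/

set_option backward.isDefEq.respectTransparency false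
set_option backward.isDefEq.respectTransparency.types false

universe v₅ u₅ v₄ u₄ v₃ u₃ v₂ u₂ v u

open CategoryTheory CategoryTheory.Functor Opposite

namespace Groth.Agent.ThetaSLib

open Groth.Agent.FibBase

variable {C : Type u} [Category.{v} C] {𝒳 : BasedCategory.{v₄, u₄} C} {𝒴 : BasedCategory.{v₅, u₅} C}
  (f : 𝒳 ⥤ᵇ 𝒴)

theorem map_map {a b : 𝒳.obj} (φ : a ⟶ b) :
    𝒳.p.map φ = eqToHom (f.w_obj a).symm ≫ 𝒴.p.map (f.map φ) ≫ eqToHom (f.w_obj b) := by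
  simpa using Functor.congr_hom f.w.symm φ

/-- An object of `𝒳` with an isomorphism over an identity from `η` to its image. -/
structure Pt (η : 𝒴.obj) where
  /-- the object -/
  x : 𝒳.obj
  /-- the comparison -/
  β : η ≅ f.obj x
  lift : 𝒴.p.IsHomLift (𝟙 (𝒴.p.obj η)) β.hom

attribute [instance] Pt.lift

variable {f}

theorem Pt.base {η : 𝒴.obj} (P : Pt f η) : 𝒳.p.obj P.x = 𝒴.p.obj η :=
  (f.w_obj P.x).symm.trans (IsHomLift.codomain_eq 𝒴.p (𝟙 _) P.β.hom)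

theorem Pt.map_β {η : 𝒴.obj} (P : Pt f η) :
    𝒴.p.map P.β.hom = eqToHom ((P.base.symm).trans (f.w_obj P.x).symm) := by
  simp [map_eq_of_isHomLift_id P.lift]

/-- `φ` is a morphism of points over `ψ`. -/
def Pt.IsMap {η' η : 𝒴.obj} (ψ : η' ⟶ η) (P' : Pt f η') (P : Pt f η) (φ : P'.x ⟶ P.x) : Prop :=
  P'.β.hom ≫ f.map φ = ψ ≫ P.β.hom

/-- `P'` is a pull back of `P` along `ψ`. -/
def Pt.Rel {η' η : 𝒴.obj} (ψ : η' ⟶ η) (P' : Pt f η') (P : Pt f η) : Prop :=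
  ∃ φ : P'.x ⟶ P.x, Pt.IsMap ψ P' P φ

theorem Pt.IsMap.f_map {η' η : 𝒴.obj} {ψ : η' ⟶ η} {P' : Pt f η'} {P : Pt f η} {φ : P'.x ⟶ P.x}
    (h : Pt.IsMap ψ P' P φ) : f.map φ = P'.β.inv ≫ ψ ≫ P.β.hom := by
  rw [← show P'.β.hom ≫ f.map φ = ψ ≫ P.β.hom from h, Iso.inv_hom_id_assoc]

theorem Pt.IsMap.map_eq {η' η : 𝒴.obj} {ψ : η' ⟶ η} {P' : Pt f η'} {P : Pt f η} {φ : P'.x ⟶ P.x}
    (h : Pt.IsMap ψ P' P φ) : 𝒳.p.map φ = eqToHom P'.base ≫ 𝒴.p.map ψ ≫ eqToHom P.base.symm := by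
  rw [map_map f φ, h.f_map, Functor.map_comp, Functor.map_comp, P.map_β, ← IsIso.Iso.inv_hom P'.β,
    Functor.map_inv]
  simp [P'.map_β]

theorem Pt.IsMap.eq [f.toFunctor.Faithful] {η' η : 𝒴.obj} {ψ : η' ⟶ η} {P' : Pt f η'} {P : Pt f η}
    {φ φ' : P'.x ⟶ P.x} (h : Pt.IsMap ψ P' P φ) (h' : Pt.IsMap ψ P' P φ') : φ = φ' :=
  f.toFunctor.map_injective (h.f_map.trans h'.f_map.symm)

theorem Pt.isMap_id {η : 𝒴.obj} (P : Pt f η) : Pt.IsMap (𝟙 η) P P (𝟙 P.x) := by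
  simp [Pt.IsMap]

theorem Pt.IsMap.comp {η'' η' η : 𝒴.obj} {ψ' : η'' ⟶ η'} {ψ : η' ⟶ η} {P'' : Pt f η''} {P' : Pt f η'}
    {P : Pt f η} {φ' : P''.x ⟶ P'.x} {φ : P'.x ⟶ P.x} (h' : Pt.IsMap ψ' P'' P' φ')
    (h : Pt.IsMap ψ P' P φ) : Pt.IsMap (ψ' ≫ ψ) P'' P (φ' ≫ φ) := by
  unfold Pt.IsMap at *
  rw [Functor.map_comp, ← Category.assoc, h', Category.assoc, h, Category.assoc]

theorem Pt.Rel.comp {η'' η' η : 𝒴.obj} {ψ' : η'' ⟶ η'} {ψ : η' ⟶ η} {P'' : Pt f η''} {P' : Pt f η'}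
    {P : Pt f η} (h' : Pt.Rel ψ' P'' P') (h : Pt.Rel ψ P' P) : Pt.Rel (ψ' ≫ ψ) P'' P :=
  ⟨_, h'.choose_spec.comp h.choose_spec⟩

variable (h𝒳 : FibCat.IsFibGrpd 𝒳.p)

include h𝒳 in
theorem Pt.IsMap.isIso {η : 𝒴.obj} {P' P : Pt f η} {φ : P'.x ⟶ P.x} (h : Pt.IsMap (𝟙 η) P' P φ) :
    IsIso φ := by
  have : IsIso (𝒳.p.map φ) := by rw [h.map_eq]; infer_instance
  exact isIso_of_lift (p := 𝒳.p) (hp := h𝒳) (𝒳.p.map φ) φ

include h𝒳 in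
theorem Pt.Rel.symm {η : 𝒴.obj} {P' P : Pt f η} (h : Pt.Rel (𝟙 η) P' P) : Pt.Rel (𝟙 η) P P' := by
  obtain ⟨φ, hφ⟩ := h
  have := hφ.isIso h𝒳
  refine ⟨inv φ, ?_⟩
  unfold Pt.IsMap at *
  rw [Functor.map_inv, IsIso.comp_inv_eq, Category.id_comp, hφ, Category.id_comp]

variable (h𝒴 : FibCat.IsFibGrpd 𝒴.p)

include h𝒳 h𝒴 in
theorem Pt.exists_rel {η' η : 𝒴.obj} (ψ : η' ⟶ η) (P : Pt f η) : ∃ P' : Pt f η', Pt.Rel ψ P' P := by
  obtain ⟨y, φ, hφ⟩ := exists_lift_of_eq h𝒳 P.base (𝒴.p.map ψ)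
  have h1 : 𝒴.p.IsHomLift (𝒴.p.map ψ) (f.map φ) := f.preserves_isHomLift _ φ
  have h2 : 𝒴.p.IsHomLift (𝒴.p.map ψ) (ψ ≫ P.β.hom) := by
    simpa using IsHomLift.comp 𝒴.p (𝒴.p.map ψ) (𝟙 _) ψ P.β.hom
  obtain ⟨e, he, he'⟩ := exists_iso_of_lifts (p := 𝒴.p) (hp := h𝒴) (𝒴.p.map ψ) (f.map φ) (ψ ≫ P.β.hom)
  exact ⟨⟨y, e, he⟩, φ, he'⟩

include h𝒳 h𝒴 in
theorem Pt.Rel.unique {η' η : 𝒴.obj} {ψ : η' ⟶ η} {P₁ P₂ : Pt f η'} {P : Pt f η}
    (h₁ : Pt.Rel ψ P₁ P) (h₂ : Pt.Rel ψ P₂ P) : Pt.Rel (𝟙 η') P₁ P₂ := by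
  obtain ⟨φ₁, h₁⟩ := h₁
  obtain ⟨φ₂, h₂⟩ := h₂
  have hk : 𝒳.p.map φ₁ = eqToHom (P₁.base.trans P₂.base.symm) ≫ 𝒳.p.map φ₂ := by
    rw [h₁.map_eq, h₂.map_eq]; simp
  have := h𝒳.isStronglyCartesian φ₂
  obtain ⟨χ, ⟨hχ, hχc⟩, -⟩ := IsStronglyCartesian.universal_property 𝒳.p (𝒳.p.map φ₂) φ₂
    (eqToHom (P₁.base.trans P₂.base.symm)) (𝒳.p.map φ₁) hk φ₁
  refine ⟨χ, ?_⟩
  unfold Pt.IsMap
  rw [Category.id_comp]
  have hbase : 𝒴.p.map (P₁.β.hom ≫ f.map χ) = 𝒴.p.map P₂.β.hom := by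
    have e := IsHomLift.eq_of_isHomLift 𝒳.p (eqToHom (P₁.base.trans P₂.base.symm)) χ
    rw [map_map f χ] at e
    have e' : 𝒴.p.map (f.map χ) = eqToHom (((f.w_obj P₁.x).trans P₁.base).trans
        (P₂.base.symm.trans (f.w_obj P₂.x).symm)) := by
      rw [← cancel_epi (eqToHom (f.w_obj P₁.x).symm), ← cancel_mono (eqToHom (f.w_obj P₂.x))]
      simpa using e.symm
    rw [Functor.map_comp, e', P₁.map_β, P₂.map_β, eqToHom_trans]
  have := h𝒴.isStronglyCartesian (f.map φ₂)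
  have := IsHomLift.map 𝒴.p (P₁.β.hom ≫ f.map χ)
  have : 𝒴.p.IsHomLift (𝒴.p.map (P₁.β.hom ≫ f.map χ)) P₂.β.hom := hbase ▸ IsHomLift.map 𝒴.p _
  refine IsStronglyCartesian.ext 𝒴.p (𝒴.p.map (f.map φ₂)) (f.map φ₂) (𝒴.p.map (P₁.β.hom ≫ f.map χ)) ?_
  rw [Category.assoc, ← f.toFunctor.map_comp, hχc]
  exact (show P₁.β.hom ≫ f.map φ₁ = ψ ≫ P.β.hom from h₁).trans
    (show P₂.β.hom ≫ f.map φ₂ = ψ ≫ P.β.hom from h₂).symm

variable (f) in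
/-- Points up to isomorphism. -/
def ptSetoid (η : 𝒴.obj) : Setoid (Pt f η) where
  r := Pt.Rel (𝟙 η)
  iseqv := ⟨fun P => ⟨_, P.isMap_id⟩, fun h => h.symm h𝒳, fun h h' => by simpa using h.comp h'⟩

variable (f) in
/-- The classes of points over `η`. -/
abbrev Cls (η : 𝒴.obj) : Type (max u₄ v₅) := Quotient (ptSetoid f h𝒳 η)

/-- The class of a point. -/
abbrev Pt.cls {η : 𝒴.obj} (P : Pt f η) : Cls f h𝒳 η := Quotient.mk _ P

/-- Pull back of classes. -/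
noncomputable def pull {η' η : 𝒴.obj} (ψ : η' ⟶ η) : Cls f h𝒳 η → Cls f h𝒳 η' :=
  Quotient.map' (fun P => (Pt.exists_rel h𝒳 h𝒴 ψ P).choose) fun P Q h => by
    have h1 := (Pt.exists_rel h𝒳 h𝒴 ψ P).choose_spec.comp h
    rw [Category.comp_id] at h1
    exact h1.unique h𝒳 h𝒴 (Pt.exists_rel h𝒳 h𝒴 ψ Q).choose_spec

theorem pull_cls {η' η : 𝒴.obj} {ψ : η' ⟶ η} {P' : Pt f η'} {P : Pt f η} (h : Pt.Rel ψ P' P) :
    pull h𝒳 h𝒴 ψ (P.cls h𝒳) = P'.cls h𝒳 :=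
  Quotient.sound ((Pt.exists_rel h𝒳 h𝒴 ψ P).choose_spec.unique h𝒳 h𝒴 h)

theorem pull_cls_iff {η' η : 𝒴.obj} {ψ : η' ⟶ η} {P' : Pt f η'} {P : Pt f η} :
    pull h𝒳 h𝒴 ψ (P.cls h𝒳) = P'.cls h𝒳 ↔ Pt.Rel ψ P' P := by
  refine ⟨fun h => ?_, pull_cls h𝒳 h𝒴⟩
  have h1 := (Quotient.exact h.symm : Pt.Rel (𝟙 η') P' _).comp (Pt.exists_rel h𝒳 h𝒴 ψ P).choose_spec
  rwa [Category.id_comp] at h1

theorem pull_id {η : 𝒴.obj} (c : Cls f h𝒳 η) : pull h𝒳 h𝒴 (𝟙 η) c = c := by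
  induction c using Quotient.ind with
  | _ P => exact pull_cls h𝒳 h𝒴 ⟨_, P.isMap_id⟩

theorem pull_comp {η'' η' η : 𝒴.obj} (ψ' : η'' ⟶ η') (ψ : η' ⟶ η) (c : Cls f h𝒳 η) :
    pull h𝒳 h𝒴 (ψ' ≫ ψ) c = pull h𝒳 h𝒴 ψ' (pull h𝒳 h𝒴 ψ c) := by
  induction c using Quotient.ind with
  | _ P =>
    obtain ⟨P', h'⟩ := Pt.exists_rel h𝒳 h𝒴 ψ P
    obtain ⟨P'', h''⟩ := Pt.exists_rel h𝒳 h𝒴 ψ' P'
    change pull h𝒳 h𝒴 (ψ' ≫ ψ) (P.cls h𝒳) = pull h𝒳 h𝒴 ψ' (pull h𝒳 h𝒴 ψ (P.cls h𝒳))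
    rw [pull_cls h𝒳 h𝒴 h', pull_cls h𝒳 h𝒴 h'', pull_cls h𝒳 h𝒴 (h''.comp h')]

section Dotted

variable {𝒜 : BasedCategory.{v₂, u₂} C} {ℬ : BasedCategory.{v₃, u₃} C}

/-- A compatible system of classes along `bot`. -/
def IsSection (bot : ℬ ⥤ᵇ 𝒴) (s : ∀ b : ℬ.obj, Cls f h𝒳 (bot.obj b)) : Prop :=
  ∀ ⦃b' b : ℬ.obj⦄ (φ : b' ⟶ b), pull h𝒳 h𝒴 (bot.map φ) (s b) = s b'

variable {h𝒳 h𝒴} [hf : f.toFunctor.Faithful] {bot : ℬ ⥤ᵇ 𝒴} {s : ∀ b : ℬ.obj, Cls f h𝒳 (bot.obj b)}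
  (hs : IsSection h𝒳 h𝒴 bot s)

include hs in
theorem IsSection.rel {b' b : ℬ.obj} (φ : b' ⟶ b) : Pt.Rel (bot.map φ) (s b').out (s b).out := by
  refine (pull_cls_iff h𝒳 h𝒴).1 ?_
  rw [Pt.cls, Pt.cls, Quotient.out_eq, Quotient.out_eq]
  exact hs φ

/-- The functor given by a compatible system of classes. -/
noncomputable def IsSection.fn : ℬ ⥤ᵇ 𝒳 where
  toFunctor :=
    { obj := fun b => (s b).out.x
      map := fun φ => (hs.rel φ).choose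
      map_id := fun b => (hs.rel (𝟙 b)).choose_spec.eq
        (show Pt.IsMap (bot.map (𝟙 b)) _ _ (𝟙 _) by rw [bot.toFunctor.map_id]; exact Pt.isMap_id _)
      map_comp := fun φ φ' => (hs.rel (φ ≫ φ')).choose_spec.eq
        (by rw [bot.toFunctor.map_comp]; exact (hs.rel φ).choose_spec.comp (hs.rel φ').choose_spec) }
  w := by
    refine Functor.ext (fun b => (s b).out.base.trans (bot.w_obj b)) fun b b' φ => ?_
    simp only [Functor.comp_map]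
    rw [(hs.rel φ).choose_spec.map_eq]
    have e := Functor.congr_hom bot.w φ
    rw [Functor.comp_map] at e
    rw [e]
    simp

/-- The lower triangle. -/
noncomputable def IsSection.isoBot : bot ≅ BasedFunctor.comp hs.fn f :=
  BasedNatIso.mkNatIso (NatIso.ofComponents (fun b => (s b).out.β)
    (fun {b b'} φ => ((hs.rel φ).choose_spec).symm))
    (fun b => isHomLift_id_congr (bot.w_obj b) (s b).out.lift)

/-- The point attached to the upper side of a square. -/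
def topPt {j : 𝒜 ⥤ᵇ ℬ} (sq : LiftSq.Sq j f) (a : 𝒜.obj) : Pt f (sq.bot.obj (j.obj a)) :=
  ⟨sq.top.obj a, isoApp sq.iso a,
    isHomLift_id_congr ((BasedFunctor.comp j sq.bot).w_obj a).symm (isoApp_lift sq.iso rfl)⟩

/-- The point attached to a dotted arrow. -/
def liftPt {j : 𝒜 ⥤ᵇ ℬ} {sq : LiftSq.Sq j f} (d : sq.Lift) (b : ℬ.obj) : Pt f (sq.bot.obj b) :=
  ⟨d.fn.obj b, isoApp d.isoBot b, isHomLift_id_congr (sq.bot.w_obj b).symm (isoApp_lift d.isoBot rfl)⟩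

theorem liftPt_rel {j : 𝒜 ⥤ᵇ ℬ} {sq : LiftSq.Sq j f} (d : sq.Lift) {b' b : ℬ.obj} (φ : b' ⟶ b) :
    Pt.Rel (sq.bot.map φ) (liftPt d b') (liftPt d b) :=
  ⟨d.fn.map φ, (natural d.isoBot φ).symm⟩

theorem liftPt_rel_topPt {j : 𝒜 ⥤ᵇ ℬ} {sq : LiftSq.Sq j f} (d : sq.Lift) (a : 𝒜.obj) :
    Pt.Rel (𝟙 _) (liftPt d (j.obj a)) (topPt sq a) :=
  ⟨(isoApp d.isoTop a).hom,
    (congrArg (fun t : BasedFunctor.comp j sq.bot ⟶ BasedFunctor.comp sq.top f => t.toNatTrans.app a) d.w).trans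
      (Category.id_comp _).symm⟩

/-- Dotted arrows are unique as soon as their classes are. -/
theorem uniqLift_of_cls_eq {j : 𝒜 ⥤ᵇ ℬ} (sq : LiftSq.Sq j f)
    (H : ∀ (d d' : sq.Lift) (b : ℬ.obj), (liftPt d b).cls h𝒳 = (liftPt d' b).cls h𝒳) : sq.UniqLift := by
  intro d d'
  have hr : ∀ b, Pt.Rel (𝟙 _) (liftPt d b) (liftPt d' b) := fun b =>
    Quotient.exact (H d d' b)
  choose θ hθ using hr
  have hnat : ∀ {b b' : ℬ.obj} (φ : b ⟶ b'), d.fn.map φ ≫ θ b' = θ b ≫ d'.fn.map φ := by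
    intro b b' φ
    have h1 : Pt.IsMap (sq.bot.map φ) (liftPt d b) (liftPt d b') (d.fn.map φ) := (natural d.isoBot φ).symm
    have h2 : Pt.IsMap (sq.bot.map φ) (liftPt d' b) (liftPt d' b') (d'.fn.map φ) := (natural d'.isoBot φ).symm
    refine (h1.comp (hθ b')).eq (P := liftPt d' b') ?_
    simpa using (hθ b).comp h2
  let η : d.fn ⟶ d'.fn :=
    { toNatTrans := { app := θ, naturality := fun _ _ φ => hnat φ }
      isHomLift' := fun b => by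
        have e := (hθ b).map_eq
        simp only [CategoryTheory.Functor.map_id, Category.id_comp, eqToHom_trans] at e
        exact isHomLift_id_of_map_eq (d.fn.w_obj b) (d'.fn.w_obj b) e }
  have key : ∀ θ' : d ⟶ d', ∀ b, θ'.hom.toNatTrans.app b = θ b := fun θ' b => by
    refine Pt.IsMap.eq (ψ := 𝟙 _) (P' := liftPt d b) (P := liftPt d' b) ?_ (hθ b)
    exact (congrArg (fun t : sq.bot ⟶ BasedFunctor.comp d'.fn f => t.toNatTrans.app b) θ'.w_bot).trans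
      (Category.id_comp _).symm
  refine ⟨{ default := ⟨η, ?_, ?_⟩, uniq := fun θ' => LiftSq.Sq.Lift.hom_ext ?_ }⟩
  · apply BasedNatTrans.homCategory.ext
    ext x
    refine Pt.IsMap.eq (ψ := 𝟙 _) (P' := liftPt d (j.obj x)) (P := topPt sq x) ?_
      (liftPt_rel_topPt d x).choose_spec |>.trans ?_
    · simpa using (hθ (j.obj x)).comp (show Pt.IsMap (𝟙 _) (liftPt d' (j.obj x)) (topPt sq x)
        (isoApp d'.isoTop x).hom from
          (congrArg (fun t : BasedFunctor.comp j sq.bot ⟶ BasedFunctor.comp sq.top f => t.toNatTrans.app x) d'.w).trans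
            (Category.id_comp _).symm)
    · exact (liftPt_rel_topPt d x).choose_spec.eq
        ((congrArg (fun t : BasedFunctor.comp j sq.bot ⟶ BasedFunctor.comp sq.top f => t.toNatTrans.app x) d.w).trans
          (Category.id_comp _).symm)
  · apply BasedNatTrans.homCategory.ext
    ext b
    exact (hθ b).trans (Category.id_comp _)
  · apply BasedNatTrans.homCategory.ext
    ext b
    exact key θ' b

/-- Dotted arrows exist uniquely as soon as systems of classes extend uniquely. -/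
theorem liftsUniquely_of_sections (j : 𝒜 ⥤ᵇ ℬ)
    (H : ∀ (bot : ℬ ⥤ᵇ 𝒴) (a : ∀ x : 𝒜.obj, Cls f h𝒳 (bot.obj (j.obj x))),
      (∀ ⦃x' x : 𝒜.obj⦄ (φ : x' ⟶ x), pull h𝒳 h𝒴 (bot.map (j.map φ)) (a x) = a x') →
        ∃! s : ∀ b : ℬ.obj, Cls f h𝒳 (bot.obj b), IsSection h𝒳 h𝒴 bot s ∧ ∀ x, s (j.obj x) = a x) :
    LiftSq.LiftsUniquely j f := by
  intro sq
  let a : ∀ x : 𝒜.obj, Cls f h𝒳 (sq.bot.obj (j.obj x)) := fun x => (topPt sq x).cls h𝒳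
  have ha : ∀ ⦃x' x : 𝒜.obj⦄ (φ : x' ⟶ x), pull h𝒳 h𝒴 (sq.bot.map (j.map φ)) (a x) = a x' :=
    fun x' x φ => pull_cls h𝒳 h𝒴 ⟨sq.top.map φ, (natural sq.iso φ).symm⟩
  obtain ⟨s, ⟨hs, hsa⟩, huniq⟩ := H sq.bot a ha
  constructor
  · have hr : ∀ x, Pt.Rel (𝟙 _) (s (j.obj x)).out (topPt sq x) := fun x => by
      have e := hsa x
      rw [← Quotient.out_eq (s (j.obj x))] at e
      exact Quotient.exact e
    choose χ hχ using hr
    have hnat : ∀ {x x' : 𝒜.obj} (φ : x ⟶ x'), (hs.fn.map (j.map φ)) ≫ χ x' = χ x ≫ sq.top.map φ := by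
      intro x x' φ
      refine ((hs.rel (j.map φ)).choose_spec.comp (hχ x')).eq (P := topPt sq x') ?_
      have h2 : Pt.IsMap (sq.bot.map (j.map φ)) (topPt sq x) (topPt sq x') (sq.top.map φ) :=
        (natural sq.iso φ).symm
      simpa using (hχ x).comp h2
    have hiso : ∀ x, IsIso (χ x) := fun x => (hχ x).isIso h𝒳
    let isoTop : BasedFunctor.comp j hs.fn ≅ sq.top :=
      BasedNatIso.mkNatIso (NatIso.ofComponents (fun x => asIso (χ x)) (fun φ => hnat φ)) (fun x => by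
        have e := (hχ x).map_eq
        simp only [CategoryTheory.Functor.map_id, Category.id_comp, eqToHom_trans] at e
        exact isHomLift_id_of_map_eq ((BasedFunctor.comp j hs.fn).w_obj x) (sq.top.w_obj x) e)
    refine ⟨⟨hs.fn, isoTop, hs.isoBot, ?_⟩⟩
    apply BasedNatTrans.homCategory.ext
    ext x
    exact (hχ x).trans (Category.id_comp _)
  · exact uniqLift_of_cls_eq (h𝒳 := h𝒳) sq fun d d' b =>
      have hsec : ∀ d : sq.Lift, (fun b => (liftPt d b).cls h𝒳) = s := fun d =>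
        huniq _ ⟨fun b' b φ => pull_cls h𝒳 h𝒴 (liftPt_rel d φ),
          fun x => Quotient.sound (liftPt_rel_topPt d x)⟩
      congrFun ((hsec d).trans (hsec d').symm) b

end Dotted

end Groth.Agent.ThetaSLib
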