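import Mathlib

/-!
# Pointwise lemmas on functions, and a division lemma on a scheme
-/

universe u

open CategoryTheory AlgebraicGeometry TopologicalSpace Opposite

namespace Groth.Agent.ThetaSLib

variable {Z : Scheme.{u}}

theorem mem_or_mem_of_add {x y : Γ(Z, ⊤)} (hxy : IsUnit (x + y)) (z : Z) :
    z ∈ Z.basicOpen x ∨ z ∈ Z.basicOpen y := by
  simp only [Scheme.mem_basicOpen_top]
  refine IsLocalRing.isUnit_or_isUnit_of_isUnit_add ?_
  rw [← map_add]
  exact hxy.map _

theorem mem_add_mul {a x : Γ(Z, ⊤)} {z : Z} (hz : z ∉ Z.basicOpen a) (hx : z ∈ Z.basicOpen x) (l : Γ(Z, ⊤)) :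
    z ∈ Z.basicOpen (x + a * l) := by
  rcases mem_or_mem_of_add (x := x + a * l) (y := -(a * l) + (1 - x)) (by ring_nf; exact isUnit_one) z with h | -
  · exact h
  · rw [Scheme.mem_basicOpen_top] at hz hx ⊢
    rw [map_add, map_mul]
    by_contra hn
    exact (IsLocalRing.mem_maximalIdeal _).1
      (by
        have := Ideal.sub_mem (IsLocalRing.maximalIdeal _) ((IsLocalRing.mem_maximalIdeal _).2 hn)
          (Ideal.mul_mem_right (Z.presheaf.germ ⊤ z trivial l) _ ((IsLocalRing.mem_maximalIdeal _).2 hz))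
        rwa [add_sub_cancel_right] at this) hx

/-- Functions `a`, `b` whose loci cover, and compatible quotients. -/
theorem existsUnique_div {a b x y : Γ(Z, ⊤)} (hcov : ∀ z : Z, z ∈ Z.basicOpen a ∨ z ∈ Z.basicOpen b)
    (hxy : x * b = y * a) : ∃! l : Γ(Z, ⊤), a * l = x ∧ b * l = y := by
  let r : ∀ W : Z.Opens, Γ(Z, ⊤) →+* Γ(Z, W) := fun W => (Z.presheaf.map (homOfLE le_top).op).hom
  have hr : ∀ {W W' : Z.Opens} (hW : W' ≤ W) (c : Γ(Z, ⊤)),
      Z.presheaf.map (homOfLE hW).op (r W c) = r W' c := fun hW c => by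
    simp only [r]
    rw [← CommRingCat.comp_apply, ← Functor.map_comp]
    rfl
  have hcov' : (⊤ : Z.Opens) ≤ Z.basicOpen a ⊔ Z.basicOpen b := fun z _ => Opens.mem_sup.2 (hcov z)
  have sep : ∀ s t : Γ(Z, ⊤), a * s = a * t → b * s = b * t → s = t := by
    intro s t hs ht
    refine TopCat.Sheaf.eq_of_locally_eq₂ Z.sheaf (homOfLE le_top : Z.basicOpen a ⟶ ⊤)
      (homOfLE le_top : Z.basicOpen b ⟶ ⊤) hcov' _ _ ?_ ?_
    · exact (RingedSpace.isUnit_res_basicOpen _ a).mul_left_cancel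
        ((map_mul (r (Z.basicOpen a)) a s).symm.trans ((congrArg _ hs).trans (map_mul _ a t)))
    · exact (RingedSpace.isUnit_res_basicOpen _ b).mul_left_cancel
        ((map_mul (r (Z.basicOpen b)) b s).symm.trans ((congrArg _ ht).trans (map_mul _ b t)))
  suffices ∃ l, a * l = x ∧ b * l = y by
    obtain ⟨l, hl⟩ := this
    exact ⟨l, hl, fun l' hl' => sep _ _ (hl'.1.trans hl.1.symm) (hl'.2.trans hl.2.symm)⟩
  obtain ⟨la, hla⟩ : ∃ la, r (Z.basicOpen a) a * la = r (Z.basicOpen a) x :=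
    ⟨_, (RingedSpace.isUnit_res_basicOpen _ a).unit.mul_inv_cancel_left (r (Z.basicOpen a) x)⟩
  obtain ⟨lb, hlb⟩ : ∃ lb, r (Z.basicOpen b) b * lb = r (Z.basicOpen b) y :=
    ⟨_, (RingedSpace.isUnit_res_basicOpen _ b).unit.mul_inv_cancel_left (r (Z.basicOpen b) y)⟩
  let V : Bool → Z.Opens := fun i => cond i (Z.basicOpen a) (Z.basicOpen b)
  let sf : ∀ i, Γ(Z, V i) := fun i => Bool.rec (motive := fun i => Γ(Z, V i)) lb la i
  let W := Z.basicOpen a ⊓ Z.basicOpen b
  have e1 : Z.presheaf.map (homOfLE (inf_le_left : W ≤ Z.basicOpen a)).op la =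
      Z.presheaf.map (homOfLE (inf_le_right : W ≤ Z.basicOpen b)).op lb := by
    have ua : IsUnit (r W a) := hr (inf_le_left : W ≤ Z.basicOpen a) a ▸
      (RingedSpace.isUnit_res_basicOpen _ a).map (Z.presheaf.map (homOfLE (inf_le_left : W ≤ _)).op).hom
    have ub : IsUnit (r W b) := hr (inf_le_right : W ≤ Z.basicOpen b) b ▸
      (RingedSpace.isUnit_res_basicOpen _ b).map (Z.presheaf.map (homOfLE (inf_le_right : W ≤ _)).op).hom
    have ea := congrArg (Z.presheaf.map (homOfLE (inf_le_left : W ≤ Z.basicOpen a)).op) hla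
    have eb := congrArg (Z.presheaf.map (homOfLE (inf_le_right : W ≤ Z.basicOpen b)).op) hlb
    rw [map_mul, hr, hr] at ea eb
    have exy := congrArg (r W) hxy
    rw [map_mul, map_mul] at exy
    refine (ua.mul ub).mul_left_cancel ?_
    linear_combination (r W b) * ea - (r W a) * eb + exy
  obtain ⟨l', hl, -⟩ := Z.sheaf.existsUnique_gluing' V ⊤ (fun i => homOfLE le_top)
    (fun z hz => Opens.mem_iSup.2 ((hcov z).elim (fun h => ⟨true, h⟩) fun h => ⟨false, h⟩)) sf (by
      intro i j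
      cases i <;> cases j
      · rfl
      · change Z.presheaf.map (homOfLE inf_le_left).op lb = Z.presheaf.map (homOfLE inf_le_right).op la
        have h := congrArg (Z.presheaf.map (homOfLE (le_of_eq (inf_comm _ _) :
          Z.basicOpen b ⊓ Z.basicOpen a ≤ W)).op) e1.symm
        rw [← CommRingCat.comp_apply, ← CommRingCat.comp_apply, ← Functor.map_comp, ← Functor.map_comp] at h
        exact h
      · exact e1
      · rfl)
  let l : Γ(Z, ⊤) := l'
  have hl1 : r _ l = la := hl true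
  have hl2 : r _ l = lb := hl false
  refine ⟨l, TopCat.Sheaf.eq_of_locally_eq₂ Z.sheaf (homOfLE le_top : Z.basicOpen a ⟶ ⊤)
      (homOfLE le_top : Z.basicOpen b ⟶ ⊤) hcov' _ _ ?_ ?_,
    TopCat.Sheaf.eq_of_locally_eq₂ Z.sheaf (homOfLE le_top : Z.basicOpen a ⟶ ⊤)
      (homOfLE le_top : Z.basicOpen b ⟶ ⊤) hcov' _ _ ?_ ?_⟩
  · change r _ (a * l) = r _ x
    rw [map_mul, hl1, hla]
  · change r _ (a * l) = r _ x
    refine (show IsUnit (r (Z.basicOpen b) b) from RingedSpace.isUnit_res_basicOpen _ b).mul_left_cancel ?_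
    change r _ b * r _ (a * l) = r _ b * r _ x
    have exy := congrArg (r (Z.basicOpen b)) hxy
    rw [map_mul, map_mul] at exy
    rw [map_mul, hl2]
    linear_combination (r (Z.basicOpen b) a) * hlb - exy
  · change r _ (b * l) = r _ y
    refine (show IsUnit (r (Z.basicOpen a) a) from RingedSpace.isUnit_res_basicOpen _ a).mul_left_cancel ?_
    change r _ a * r _ (b * l) = r _ a * r _ y
    have exy := congrArg (r (Z.basicOpen a)) hxy
    rw [map_mul, map_mul] at exy
    rw [map_mul, hl1]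
    linear_combination (r (Z.basicOpen a) b) * hla + exy
  · change r _ (b * l) = r _ y
    rw [map_mul, hl2, hlb]

end Groth.Agent.ThetaSLib
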