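import Groth.Prelude.Def_AlgSt5
import Groth.Agent.GrpSchLib.GaPts
import Groth.Agent.ThetaSLib.GluePts

/-!
# The additive torsor with class `1/π`

For a scheme `T` over `Spec R` with two opens which agree exactly where `π` is invertible, the open
subscheme `W` of `T ×_R Spec R[u, v]/(u (u + 1) - π v)` of the points lying on matching charts is a torsor
under the additive group for `u ↦ u + π λ`, `v ↦ v + (2 u + 1) λ + π λ²`.
-/

set_option backward.isDefEq.respectTransparency false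
set_option backward.isDefEq.respectTransparency.types false

universe u

open CategoryTheory CategoryTheory.Limits MonoidalCategory CartesianMonoidalCategory MonObj AlgebraicGeometry Opposite
open TopologicalSpace (Opens)
open Groth.Agent.GrpSchLib

noncomputable section

namespace Groth.Agent.ThetaSLib.GaTorsor

variable {R : Type u} [CommRing R] (π : R)

/-- The coordinate ring. -/
abbrev ERing : Type u :=
  MvPolynomial (Fin 2) R ⧸ Ideal.span
    {(MvPolynomial.X 0 * (MvPolynomial.X 0 + 1) - MvPolynomial.C π * MvPolynomial.X 1 : MvPolynomial (Fin 2) R)}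

/-- The affine scheme `Spec R[u, v]/(u (u + 1) - π v)`. -/
abbrev ESch : Scheme.{u} := Spec (CommRingCat.of (ERing π))

/-- Its structure morphism. -/
abbrev eHom : ESch π ⟶ Spec (CommRingCat.of R) := Spec.map (CommRingCat.ofHom (algebraMap R (ERing π)))

/-- An element of the coordinate ring as a function. -/
abbrev eFn (c : ERing π) : Γ(ESch π, ⊤) := (Scheme.ΓSpecIso (CommRingCat.of (ERing π))).inv c

/-- The coordinate `u`. -/
abbrev uE : ERing π := Ideal.Quotient.mk _ (MvPolynomial.X 0)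

/-- The coordinate `v`. -/
abbrev vE : ERing π := Ideal.Quotient.mk _ (MvPolynomial.X 1)

theorem eRing_rel : uE π * (uE π + 1) = algebraMap R (ERing π) π * vE π := by
  rw [IsScalarTower.algebraMap_apply R (MvPolynomial (Fin 2) R) (ERing π), Ideal.Quotient.algebraMap_eq,
    MvPolynomial.algebraMap_eq]
  exact (Ideal.Quotient.mk_eq_mk_iff_sub_mem _ _).mpr (Ideal.subset_span rfl)

variable {Z : Scheme.{u}}

/-- The ring map `R ⟶ Γ(Z)` of a scheme over `Spec R`. -/
def structMap (z : Z ⟶ Spec (CommRingCat.of R)) : R →+* Γ(Z, ⊤) :=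
  ((Scheme.ΓSpecIso (CommRingCat.of R)).inv ≫ z.appTop).hom

variable {π}

theorem appTop_eHom (m : Z ⟶ ESch π) (r : R) :
    m.appTop (eFn π (algebraMap R (ERing π) r)) = structMap (m ≫ eHom π) r := by
  change _ = (m ≫ eHom π).appTop ((Scheme.ΓSpecIso (CommRingCat.of R)).inv r)
  rw [Scheme.Hom.comp_appTop, CommRingCat.comp_apply]
  congr 1
  exact congrArg (fun t => (ConcreteCategory.hom t) r)
    (Scheme.ΓSpecIso_inv_naturality (CommRingCat.ofHom (algebraMap R (ERing π))))

theorem eSch_rel (m : Z ⟶ ESch π) :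
    m.appTop (eFn π (uE π)) * (m.appTop (eFn π (uE π)) + 1) =
      structMap (m ≫ eHom π) π * m.appTop (eFn π (vE π)) := by
  let φ : ERing π →+* Γ(Z, ⊤) := m.appTop.hom.comp (Scheme.ΓSpecIso (CommRingCat.of (ERing π))).inv.hom
  rw [← appTop_eHom]
  change φ _ * (φ _ + 1) = φ _ * φ _
  rw [← map_one φ, ← map_add, ← map_mul, ← map_mul, eRing_rel]

/-- The ring map of the coordinates `(U, V)`. -/
def coordMap (z : Z ⟶ Spec (CommRingCat.of R)) (U V : Γ(Z, ⊤)) (hrel : U * (U + 1) = structMap z π * V) :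
    ERing π →+* Γ(Z, ⊤) :=
  Ideal.Quotient.lift _ (MvPolynomial.eval₂Hom (structMap z) ![U, V]) (by
      intro p hp
      obtain ⟨c, rfl⟩ := Ideal.mem_span_singleton'.1 hp
      simp [hrel])

/-- The morphism of the coordinates `(U, V)`. -/
def mkE (z : Z ⟶ Spec (CommRingCat.of R)) (U V : Γ(Z, ⊤)) (hrel : U * (U + 1) = structMap z π * V) : Z ⟶ ESch π :=
  ΓSpec.adjunction.homEquiv Z (op (CommRingCat.of (ERing π))) (CommRingCat.ofHom (coordMap z U V hrel)).op

theorem mkE_appTop {z : Z ⟶ Spec (CommRingCat.of R)} {U V : Γ(Z, ⊤)} (hrel : U * (U + 1) = structMap z π * V)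
    (p : MvPolynomial (Fin 2) R) :
    (mkE z U V hrel).appTop (eFn π (Ideal.Quotient.mk _ p)) = MvPolynomial.eval₂Hom (structMap z) ![U, V] p :=
  (DFunLike.congr_fun (congrArg CommRingCat.Hom.hom
    (ΓSpecIso_inv_ΓSpec_adjunction_homEquiv (CommRingCat.ofHom (coordMap z U V hrel))))
    (Ideal.Quotient.mk _ p : ERing π)).trans rfl

theorem mkE_u {z : Z ⟶ Spec (CommRingCat.of R)} {U V : Γ(Z, ⊤)} (hrel : U * (U + 1) = structMap z π * V) :
    (mkE z U V hrel).appTop (eFn π (uE π)) = U := (mkE_appTop hrel _).trans (by simp)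

theorem mkE_v {z : Z ⟶ Spec (CommRingCat.of R)} {U V : Γ(Z, ⊤)} (hrel : U * (U + 1) = structMap z π * V) :
    (mkE z U V hrel).appTop (eFn π (vE π)) = V := (mkE_appTop hrel _).trans (by simp)

theorem eq_of_appTop_base {z z' : Z ⟶ Spec (CommRingCat.of R)} (h : structMap z = structMap z') : z = z' := by
  refine ext_of_isAffine ?_
  ext c
  have := RingHom.congr_fun h ((Scheme.ΓSpecIso (CommRingCat.of R)).hom c)
  simpa [structMap] using this

theorem mkE_hom {z : Z ⟶ Spec (CommRingCat.of R)} {U V : Γ(Z, ⊤)} (hrel : U * (U + 1) = structMap z π * V) :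
    mkE z U V hrel ≫ eHom π = z := by
  refine eq_of_appTop_base (RingHom.ext fun r => ?_)
  rw [← appTop_eHom, IsScalarTower.algebraMap_apply R (MvPolynomial (Fin 2) R) (ERing π),
    Ideal.Quotient.algebraMap_eq, MvPolynomial.algebraMap_eq, mkE_appTop]
  simp

theorem eSch_ext {m m' : Z ⟶ ESch π} (hz : m ≫ eHom π = m' ≫ eHom π)
    (hu : m.appTop (eFn π (uE π)) = m'.appTop (eFn π (uE π)))
    (hv : m.appTop (eFn π (vE π)) = m'.appTop (eFn π (vE π))) : m = m' := by
  refine ext_of_isAffine ?_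
  have key : m.appTop.hom.comp (Scheme.ΓSpecIso (CommRingCat.of (ERing π))).inv.hom =
      m'.appTop.hom.comp (Scheme.ΓSpecIso (CommRingCat.of (ERing π))).inv.hom := by
    refine Ideal.Quotient.ringHom_ext (MvPolynomial.ringHom_ext (fun r => ?_) fun i => ?_)
    · have := congrArg (fun w => structMap w r) hz
      simp only [← appTop_eHom] at this
      rw [IsScalarTower.algebraMap_apply R (MvPolynomial (Fin 2) R) (ERing π), Ideal.Quotient.algebraMap_eq,
        MvPolynomial.algebraMap_eq] at this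
      exact this
    · fin_cases i
      · exact hu
      · exact hv
  ext c
  have := RingHom.congr_fun key ((Scheme.ΓSpecIso (CommRingCat.of (ERing π))).hom c)
  simpa using this

variable (π) in
/-- A scheme over `Spec R` with two opens agreeing exactly where `π` is invertible. -/
structure Charts where
  /-- the scheme -/
  T : Over (Spec (CommRingCat.of R))
  /-- the first chart -/
  T₁ : T.left.Opens
  /-- the second chart -/
  T₂ : T.left.Opens
  sup_eq : T₁ ⊔ T₂ = ⊤
  inf_eq : T₁ ⊓ T₂ = T.left.basicOpen (structMap T.hom π)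

variable (D : Charts π)

/-- The product with `ESch π`. -/
abbrev prod : Scheme.{u} := pullback D.T.hom (eHom π)

/-- The points lying on matching charts. -/
abbrev opens : (prod D).Opens :=
  (pullback.fst D.T.hom (eHom π) ⁻¹ᵁ D.T₁ ⊓
      (prod D).basicOpen ((pullback.snd D.T.hom (eHom π)).appTop (eFn π (uE π)) + 1)) ⊔
    (pullback.fst D.T.hom (eHom π) ⁻¹ᵁ D.T₂ ⊓
      (prod D).basicOpen ((pullback.snd D.T.hom (eHom π)).appTop (eFn π (uE π))))

variable {S : Scheme.{u}} (h : Spec (CommRingCat.of R) ⟶ S)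

/-- The base, over `S`. -/
abbrev baseOver : Over S := (Over.map h).obj D.T

/-- The total space, over `S`. -/
abbrev total : Over S :=
  Over.mk ((opens D).ι ≫ pullback.fst D.T.hom (eHom π) ≫ D.T.hom ≫ h)

/-- The projection. -/
abbrev proj : total D h ⟶ baseOver D h :=
  Over.homMk ((opens D).ι ≫ pullback.fst D.T.hom (eHom π)) (by simp [baseOver, total])

variable {D h} {Y Y' : Over S}

/-- The `u`-coordinate of a point. -/
def uFn (m : Y ⟶ total D h) : Γ(Y.left, ⊤) :=
  (m.left ≫ (opens D).ι ≫ pullback.snd D.T.hom (eHom π)).appTop (eFn π (uE π))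

/-- The `v`-coordinate of a point. -/
def vFn (m : Y ⟶ total D h) : Γ(Y.left, ⊤) :=
  (m.left ≫ (opens D).ι ≫ pullback.snd D.T.hom (eHom π)).appTop (eFn π (vE π))

/-- The value of `π` at a point of the base. -/
def piFn (t : Y ⟶ baseOver D h) : Γ(Y.left, ⊤) := structMap (t.left ≫ D.T.hom) π

theorem piFn_comp (g : Y' ⟶ Y) (t : Y ⟶ baseOver D h) : piFn (g ≫ t) = g.left.appTop (piFn t) := by
  simp [piFn, structMap]

theorem uFn_comp (g : Y' ⟶ Y) (m : Y ⟶ total D h) : uFn (g ≫ m) = g.left.appTop (uFn m) := by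
  simp [uFn]

theorem vFn_comp (g : Y' ⟶ Y) (m : Y ⟶ total D h) : vFn (g ≫ m) = g.left.appTop (vFn m) := by
  simp [vFn]

theorem snd_eHom (m : Y ⟶ total D h) :
    (m.left ≫ (opens D).ι ≫ pullback.snd D.T.hom (eHom π)) ≫ eHom π = (m ≫ proj D h).left ≫ D.T.hom := by
  simp [pullback.condition]

theorem rel (m : Y ⟶ total D h) : uFn m * (uFn m + 1) = piFn (m ≫ proj D h) * vFn m := by
  rw [uFn, vFn, eSch_rel, snd_eHom]
  rfl

theorem piFn_mem {t : Y ⟶ baseOver D h} {y : Y.left} :
    y ∈ Y.left.basicOpen (piFn t) ↔ t.left y ∈ D.T₁ ∧ t.left y ∈ D.T₂ := by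
  rw [← Opens.mem_inf, D.inf_eq]
  have : piFn t = t.left.appTop (structMap D.T.hom π) := by simp [piFn, structMap]
  rw [this, ← Scheme.preimage_basicOpen_top]
  rfl

/-- The condition for coordinates to give a point. -/
def Cond (t : Y ⟶ baseOver D h) (U : Γ(Y.left, ⊤)) : Prop :=
  ∀ y : Y.left, (t.left y ∈ D.T₁ ∧ y ∈ Y.left.basicOpen (U + 1)) ∨ (t.left y ∈ D.T₂ ∧ y ∈ Y.left.basicOpen U)

theorem cond (m : Y ⟶ total D h) : Cond (m ≫ proj D h) (uFn m) := by
  intro y
  let g : Y.left ⟶ prod D := m.left ≫ (opens D).ι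
  have hy : g y ∈ opens D := ((m.left y)).2
  have hu : uFn m = g.appTop ((pullback.snd D.T.hom (eHom π)).appTop (eFn π (uE π))) := by
    simp [uFn, g]
  rcases Opens.mem_sup.1 hy with ⟨h1, h2⟩ | ⟨h1, h2⟩
  · refine Or.inl ⟨h1, ?_⟩
    rw [hu, ← map_one g.appTop.hom, ← map_add, ← Scheme.preimage_basicOpen_top]
    exact h2
  · refine Or.inr ⟨h1, ?_⟩
    rw [hu, ← Scheme.preimage_basicOpen_top]
    exact h2

/-- The point with given coordinates. -/
def mk (t : Y ⟶ baseOver D h) (U V : Γ(Y.left, ⊤)) (hrel : U * (U + 1) = piFn t * V) (hc : Cond t U) :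
    Y ⟶ total D h :=
  Over.homMk (IsOpenImmersion.lift (opens D).ι
      (pullback.lift t.left (mkE (t.left ≫ D.T.hom) U V hrel) (mkE_hom hrel).symm) (by
        rintro _ ⟨y, rfl⟩
        let g := pullback.lift t.left (mkE (t.left ≫ D.T.hom) U V hrel) (mkE_hom hrel).symm
        have hu : g.appTop ((pullback.snd D.T.hom (eHom π)).appTop (eFn π (uE π))) = U := by
          rw [← CommRingCat.comp_apply, ← Scheme.Hom.comp_appTop, pullback.lift_snd, mkE_u]
        have hf : pullback.fst D.T.hom (eHom π) (g y) = t.left y :=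
          congrArg (fun k : Y.left ⟶ D.T.left => k y)
            (pullback.lift_fst t.left (mkE (t.left ≫ D.T.hom) U V hrel) (mkE_hom hrel).symm)
        refine ⟨⟨g y, ?_⟩, rfl⟩
        refine Opens.mem_sup.2 ((hc y).imp (fun hy => ⟨?_, ?_⟩) (fun hy => ⟨?_, ?_⟩))
        · show pullback.fst D.T.hom (eHom π) (g y) ∈ D.T₁
          rw [hf]; exact hy.1
        · have := hy.2
          rwa [← hu, ← map_one g.appTop.hom, ← map_add, ← Scheme.preimage_basicOpen_top] at this
        · show pullback.fst D.T.hom (eHom π) (g y) ∈ D.T₂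
          rw [hf]; exact hy.1
        · have := hy.2
          rwa [← hu, ← Scheme.preimage_basicOpen_top] at this))
    (by simp only [total, Over.mk_hom, IsOpenImmersion.lift_fac_assoc, pullback.lift_fst_assoc]; exact Over.w t)

@[simp] theorem mk_proj (t : Y ⟶ baseOver D h) (U V : Γ(Y.left, ⊤)) (hrel : U * (U + 1) = piFn t * V)
    (hc : Cond t U) : mk t U V hrel hc ≫ proj D h = t := by
  ext : 1
  simp [mk]

@[simp] theorem uFn_mk (t : Y ⟶ baseOver D h) (U V : Γ(Y.left, ⊤)) (hrel : U * (U + 1) = piFn t * V)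
    (hc : Cond t U) : uFn (mk t U V hrel hc) = U := by
  simp only [uFn, mk, Over.homMk_left, IsOpenImmersion.lift_fac_assoc, pullback.lift_snd, mkE_u]

@[simp] theorem vFn_mk (t : Y ⟶ baseOver D h) (U V : Γ(Y.left, ⊤)) (hrel : U * (U + 1) = piFn t * V)
    (hc : Cond t U) : vFn (mk t U V hrel hc) = V := by
  simp only [vFn, mk, Over.homMk_left, IsOpenImmersion.lift_fac_assoc, pullback.lift_snd, mkE_v]

theorem hom_ext {m m' : Y ⟶ total D h} (ht : m ≫ proj D h = m' ≫ proj D h) (hu : uFn m = uFn m')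
    (hv : vFn m = vFn m') : m = m' := by
  apply Over.OverMorphism.ext
  rw [← cancel_mono (opens D).ι]
  apply pullback.hom_ext
  · simpa using congrArg CommaMorphism.left ht
  · simp only [Category.assoc]
    refine eSch_ext ?_ hu hv
    rw [snd_eHom, snd_eHom, ht]

theorem cond_move {t : Y ⟶ baseOver D h} {U : Γ(Y.left, ⊤)} (hc : Cond t U) (l : Γ(Y.left, ⊤)) :
    Cond t (U + piFn t * l) := by
  intro y
  by_cases hy : y ∈ Y.left.basicOpen (piFn t)
  · obtain ⟨h1, h2⟩ := piFn_mem.1 hy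
    rcases mem_or_mem_of_add (x := U + piFn t * l + 1) (y := -(U + piFn t * l))
      (by rw [add_assoc, add_comm (1 : Γ(Y.left, ⊤)), ← add_assoc, add_neg_cancel, zero_add]; exact isUnit_one) y with h | h
    · exact Or.inl ⟨h1, h⟩
    · rw [Scheme.mem_basicOpen_top, map_neg, IsUnit.neg_iff, ← Scheme.mem_basicOpen_top] at h
      exact Or.inr ⟨h2, h⟩
  · refine (hc y).imp (fun h' => ⟨h'.1, ?_⟩) (fun h' => ⟨h'.1, mem_add_mul hy h'.2 l⟩)
    have := mem_add_mul hy h'.2 l
    rwa [show U + 1 + piFn t * l = U + piFn t * l + 1 by ring] at this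

theorem cover_sum {t : Y ⟶ baseOver D h} {U₁ V₁ U₂ V₂ : Γ(Y.left, ⊤)}
    (r₁ : U₁ * (U₁ + 1) = piFn t * V₁) (r₂ : U₂ * (U₂ + 1) = piFn t * V₂) (c₁ : Cond t U₁) (c₂ : Cond t U₂)
    (y : Y.left) : y ∈ Y.left.basicOpen (piFn t) ∨ y ∈ Y.left.basicOpen (U₁ + U₂ + 1) := by
  refine or_iff_not_imp_left.2 fun hy => ?_
  let g := (Y.left.presheaf.germ ⊤ y trivial).hom
  have g1 : g 1 = 1 := map_one g
  have hπ : g (piFn t) ∈ IsLocalRing.maximalIdeal _ :=
    (IsLocalRing.mem_maximalIdeal _).2 (by rwa [Scheme.mem_basicOpen_top] at hy)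
  have hm : ∀ {U V : Γ(Y.left, ⊤)}, U * (U + 1) = piFn t * V →
      g U * (g U + 1) ∈ IsLocalRing.maximalIdeal (Y.left.presheaf.stalk y) := fun {U V} r => by
    rw [← g1, ← map_add, ← map_mul, r, map_mul]
    exact Ideal.mul_mem_right _ _ hπ
  have hexcl : ¬(t.left y ∈ D.T₁ ∧ t.left y ∈ D.T₂) := fun h => hy (piFn_mem.2 h)
  rw [Scheme.mem_basicOpen_top]
  change IsUnit (g (U₁ + U₂ + 1))
  rw [map_add, map_add, g1]
  rw [← IsLocalRing.notMem_maximalIdeal]
  intro hs
  rcases c₁ y with ⟨a₁, b₁⟩ | ⟨a₁, b₁⟩ <;> rcases c₂ y with ⟨a₂, b₂⟩ | ⟨a₂, b₂⟩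
  · rw [Scheme.mem_basicOpen_top] at b₁ b₂
    change IsUnit (g (U₁ + 1)) at b₁
    change IsUnit (g (U₂ + 1)) at b₂
    rw [map_add, g1, ← IsLocalRing.notMem_maximalIdeal] at b₁ b₂
    have u₁ := ((Ideal.IsPrime.mem_or_mem inferInstance (hm r₁)).resolve_right b₁)
    have u₂ := ((Ideal.IsPrime.mem_or_mem inferInstance (hm r₂)).resolve_right b₂)
    exact (IsLocalRing.notMem_maximalIdeal.2 (isUnit_one (M := (Y.left.presheaf.stalk y : CommRingCat.{u}))))
      (by simpa using Ideal.sub_mem _ hs (Ideal.add_mem _ u₁ u₂))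
  · exact hexcl ⟨a₁, a₂⟩
  · exact hexcl ⟨a₂, a₁⟩
  · rw [Scheme.mem_basicOpen_top] at b₁ b₂
    change IsUnit (g U₁) at b₁
    change IsUnit (g U₂) at b₂
    rw [← IsLocalRing.notMem_maximalIdeal] at b₁ b₂
    have u₁ := ((Ideal.IsPrime.mem_or_mem inferInstance (hm r₁)).resolve_left b₁)
    have u₂ := ((Ideal.IsPrime.mem_or_mem inferInstance (hm r₂)).resolve_left b₂)
    exact (IsLocalRing.notMem_maximalIdeal.2 (isUnit_one (M := (Y.left.presheaf.stalk y : CommRingCat.{u})))) (by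
      have := Ideal.sub_mem _ (Ideal.add_mem _ u₁ u₂) hs
      rw [show g U₁ + 1 + (g U₂ + 1) - (g U₁ + g U₂ + 1) = 1 by ring] at this
      exact this)

variable (D h)

/-- The translation of a point by a function. -/
def move (m : Y ⟶ total D h) (l : Γ(Y.left, ⊤)) : Y ⟶ total D h :=
  mk (m ≫ proj D h) (uFn m + piFn (m ≫ proj D h) * l)
    (vFn m + (2 * uFn m + 1) * l + piFn (m ≫ proj D h) * l ^ 2)
    (by linear_combination rel m) (cond_move (cond m) l)

/-- The action of the additive group. -/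
def act : Red.Ga S ⊗ total D h ⟶ total D h :=
  move D h (snd _ _) (Red.gaFn (fst (Red.Ga S) (total D h)))

theorem lift_act (g : Y ⟶ Red.Ga S) (m : Y ⟶ total D h) : lift g m ≫ act D h = move D h m (Red.gaFn g) := by
  have hs : (lift g m).left.appTop (Red.gaFn (fst (Red.Ga S) (total D h))) = Red.gaFn g := by
    rw [← GaPts.gaFn_comp, lift_fst]
  apply hom_ext
  · rw [Category.assoc, act, move, move, mk_proj, mk_proj, lift_snd_assoc]
  · rw [uFn_comp, act, move, move, uFn_mk, uFn_mk, map_add, map_mul, ← uFn_comp, ← piFn_comp, hs, lift_snd,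
      lift_snd_assoc]
  · rw [vFn_comp, act, move, move, vFn_mk, vFn_mk]
    simp only [map_add, map_mul, map_pow, map_ofNat, map_one]
    rw [← vFn_comp, ← uFn_comp, ← piFn_comp, hs, lift_snd, lift_snd_assoc]

theorem lift_act_proj (g : Y ⟶ Red.Ga S) (m : Y ⟶ total D h) :
    (lift g m ≫ act D h) ≫ proj D h = m ≫ proj D h := by
  rw [lift_act, move, mk_proj]

/-- The action as an action. -/
def action : AlgGrp.Action (Red.Ga S) (total D h) where
  act := act D h
  one_act := by
    have e : η[Red.Ga S] ▷ total D h = lift (1 : _ ⟶ Red.Ga S) (snd _ _) := by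
      rw [← tensorHom_id, ← lift_fst_comp_snd_comp, Category.comp_id, Hom.one_def,
        toUnit_unique (toUnit _) (fst _ _)]
    rw [e, lift_act, leftUnitor_hom]
    apply hom_ext
    · simp [move]
    · simp [move, GaPts.gaFn_one]
    · simp [move, GaPts.gaFn_one]
  mul_act := by
    have e1 : (μ[Red.Ga S] ▷ total D h) = lift ((fst _ _ ≫ fst _ _) * (fst _ _ ≫ snd _ _)) (snd _ _) := by
      rw [Hom.mul_def, ← comp_lift, lift_fst_snd, Category.comp_id, ← tensorHom_id, ← lift_fst_comp_snd_comp,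
        Category.comp_id]
    have e2 : (α_ (Red.Ga S) (Red.Ga S) (total D h)).hom =
        lift (fst _ _ ≫ fst _ _) (lift (fst _ _ ≫ snd _ _) (snd _ _)) := by
      rw [← lift_lift_associator_hom, lift_comp_fst_snd, lift_fst_snd, Category.id_comp]
    rw [e1, e2, lift_act, lift_whiskerLeft_assoc, lift_act, lift_act]
    apply hom_ext
    · simp [move]
    · simp only [move, uFn_mk, mk_proj, GaPts.gaFn_mul]; ring
    · simp only [move, vFn_mk, uFn_mk, mk_proj, GaPts.gaFn_mul]; ring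

theorem existsUnique_move (p q : Y ⟶ total D h) (e : q ≫ proj D h = p ≫ proj D h) :
    ∃! g : Y ⟶ Red.Ga S, lift g p ≫ act D h = q := by
  have rp := rel p
  have rq := rel q
  rw [e] at rq
  have cq := cond q
  rw [e] at cq
  obtain ⟨l, ⟨hl₁, hl₂⟩, hl⟩ := existsUnique_div (a := piFn (p ≫ proj D h)) (b := uFn p + uFn q + 1)
    (x := uFn q - uFn p) (y := vFn q - vFn p)
    (fun y => cover_sum rp rq (cond p) cq y) (by linear_combination rq - rp)
  refine ⟨GaPts.ptOfFn l, ?_, fun g hg => GaPts.gaFn_injective ?_⟩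
  · show lift _ p ≫ act D h = q
    rw [lift_act]
    apply hom_ext
    · rw [move, mk_proj, e]
    · rw [move, uFn_mk, GaPts.gaFn_ptOfFn]; linear_combination hl₁
    · rw [move, vFn_mk, GaPts.gaFn_ptOfFn]; linear_combination hl₂ + l * hl₁
  · show Red.gaFn g = Red.gaFn (GaPts.ptOfFn l)
    rw [GaPts.gaFn_ptOfFn]
    dsimp only at hg
    rw [lift_act] at hg
    have hu := congrArg uFn hg
    have hv := congrArg vFn hg
    rw [move, uFn_mk] at hu
    rw [move, vFn_mk] at hv
    exact hl _ ⟨by linear_combination hu, by linear_combination hv + Red.gaFn g * (-hu)⟩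

theorem isPullback_act : IsPullback (action D h).act (snd _ (total D h)) (proj D h) (proj D h) := by
  have w : (action D h).act ≫ proj D h = snd _ _ ≫ proj D h := by
    show act D h ≫ _ = _
    rw [act, move, mk_proj]
  choose l hl hu using fun (s : PullbackCone (proj D h) (proj D h)) =>
    existsUnique_move D h s.snd s.fst s.condition
  refine IsPullback.of_isLimit' ⟨w⟩ (PullbackCone.IsLimit.mk w (fun s => lift (l s) s.snd) (fun s => hl s)
    (fun s => lift_snd _ _) fun s m h1 h2 => ?_)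
  rw [← hu s (m ≫ fst _ _) ?_]
  · exact (CartesianMonoidalCategory.hom_ext _ _ (lift_fst _ _) (by rw [lift_snd]; exact h2.symm)).symm
  · dsimp only
    rw [← h2, ← comp_lift, lift_fst_snd, Category.comp_id]
    exact h1

theorem hasSection₁ : NonAbH1.HasSectionOver (Over.mk (proj D h).left : Over (baseOver D h).left) D.T₁.ι := by
  let Y : Over S := Over.mk (D.T₁.ι ≫ (baseOver D h).hom)
  let t : Y ⟶ baseOver D h := Over.homMk D.T₁.ι rfl
  refine ⟨(mk t 0 0 (by simp) fun y => Or.inl ⟨y.2, ?_⟩).left, congrArg CommaMorphism.left (mk_proj t _ _ _ _)⟩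
  rw [zero_add, Scheme.basicOpen_of_isUnit _ isUnit_one]
  trivial

theorem hasSection₂ : NonAbH1.HasSectionOver (Over.mk (proj D h).left : Over (baseOver D h).left) D.T₂.ι := by
  let Y : Over S := Over.mk (D.T₂.ι ≫ (baseOver D h).hom)
  let t : Y ⟶ baseOver D h := Over.homMk D.T₂.ι rfl
  refine ⟨(mk t (-1) 0 (by simp) fun y => Or.inr ⟨y.2, ?_⟩).left, congrArg CommaMorphism.left (mk_proj t _ _ _ _)⟩
  rw [Scheme.basicOpen_of_isUnit _ isUnit_one.neg]
  trivial

theorem loc : NonAbH1.IsLocallyTrivialFor Scheme.fppfPrecoverage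
    (Over.mk (proj D h).left : Over (baseOver D h).left) := by
  let U : Bool → (baseOver D h).left.Opens := fun i => bif i then D.T₁ else D.T₂
  refine ⟨Presieve.ofArrows (fun i => (U i).toScheme) (fun i => (U i).ι), ?_, ?_⟩
  · show _ ∈ Scheme.precoverage _ _
    rw [Scheme.ofArrows_mem_precoverage_iff]
    refine ⟨fun x => ?_, fun i => ⟨inferInstance, inferInstance⟩⟩
    have hx : x ∈ D.T₁ ⊔ D.T₂ := by rw [D.sup_eq]; trivial
    exact (Opens.mem_sup.1 hx).elim (fun hx => ⟨true, ⟨x, hx⟩, rfl⟩) fun hx => ⟨false, ⟨x, hx⟩, rfl⟩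
  · rintro S' f ⟨i⟩
    cases i
    · exact hasSection₂ D h
    · exact hasSection₁ D h

/-- The torsor as an object of the classifying stack. -/
def torsor : (AlgSt.BG Scheme.fppfPrecoverage (Red.Ga S)).obj where
  base := baseOver D h
  P := total D h
  act := action D h
  π := proj D h
  cart := isPullback_act D h
  loc := loc D h
  φ := toUnit _
  eqv := toUnit_unique _ _

variable {D h} {D' : Charts π}

theorem piFn_map (ψ : D'.T ⟶ D.T) (t : Y ⟶ baseOver D' h) :
    piFn (t ≫ (Over.map h).map ψ) = piFn t := by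
  simp only [piFn, Over.comp_left, Category.assoc]
  congr 2
  exact congrArg _ (Over.w ψ)

variable (ψ : D'.T ⟶ D.T) (h₁ : ψ.left ⁻¹ᵁ D.T₁ = D'.T₁) (h₂ : ψ.left ⁻¹ᵁ D.T₂ = D'.T₂)

include h₁ h₂ in
theorem cond_map (t : Y ⟶ baseOver D' h) (U : Γ(Y.left, ⊤)) :
    Cond (t ≫ (Over.map h).map ψ) U ↔ Cond t U := by
  unfold Cond
  rw [← h₁, ← h₂]
  rfl

/-- The morphism of total spaces over a morphism of charts. -/
def totalMap : total D' h ⟶ total D h :=
  mk (proj D' h ≫ (Over.map h).map ψ) (uFn (𝟙 _)) (vFn (𝟙 _))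
    (by rw [piFn_map]; simpa using rel (𝟙 (total D' h)))
    ((cond_map ψ h₁ h₂ _ _).2 (by simpa using cond (𝟙 (total D' h))))

theorem comp_totalMap (m : Y ⟶ total D' h) :
    m ≫ totalMap (h := h) ψ h₁ h₂ = mk ((m ≫ proj D' h) ≫ (Over.map h).map ψ) (uFn m) (vFn m)
      (by rw [piFn_map]; exact rel m) ((cond_map ψ h₁ h₂ _ _).2 (cond m)) := by
  apply hom_ext
  · simp [totalMap]
  · rw [uFn_comp, totalMap, uFn_mk, uFn_mk, ← uFn_comp, Category.comp_id]
  · rw [vFn_comp, totalMap, vFn_mk, vFn_mk, ← vFn_comp, Category.comp_id]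

theorem totalMap_proj :
    totalMap (h := h) ψ h₁ h₂ ≫ proj D h = proj D' h ≫ (Over.map h).map ψ := mk_proj _ _ _ _ _

/-- The morphism of torsors over a morphism of charts. -/
def torsorMap : torsor D' h ⟶ torsor D h where
  base := (Over.map h).map ψ
  top := totalMap ψ h₁ h₂
  eqv := by
    show act D' h ≫ _ = (Red.Ga S ◁ _) ≫ act D h
    have e : Red.Ga S ◁ totalMap (h := h) ψ h₁ h₂ = lift (fst _ _) (snd _ _ ≫ totalMap ψ h₁ h₂) := by
      apply CartesianMonoidalCategory.hom_ext <;> simp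
    rw [e, lift_act, comp_totalMap, comp_totalMap]
    apply hom_ext
    · simp [act, move]
    · simp [act, move, ← Category.assoc, piFn_map]
    · simp [act, move, ← Category.assoc, piFn_map]
  cart := by
    refine IsPullback.of_isLimit' ⟨totalMap_proj ψ h₁ h₂⟩ (PullbackCone.IsLimit.mk (totalMap_proj ψ h₁ h₂)
      (fun s => mk s.snd (uFn s.fst) (vFn s.fst)
        (by rw [← piFn_map ψ s.snd, ← show s.fst ≫ proj D h = s.snd ≫ (Over.map h).map ψ from s.condition]
            exact rel s.fst)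
        ((cond_map ψ h₁ h₂ _ _).1 (by
          rw [← show s.fst ≫ proj D h = s.snd ≫ (Over.map h).map ψ from s.condition]; exact cond s.fst)))
      (fun s => ?_) (fun s => mk_proj _ _ _ _ _) fun s m h1 h2 => ?_)
    · rw [comp_totalMap]
      apply hom_ext
      · rw [mk_proj, mk_proj]; exact s.condition.symm
      · simp
      · simp
    · change m ≫ proj D' h = s.snd at h2
      apply hom_ext
      · rw [mk_proj]; exact h2
      · rw [uFn_mk, ← h1, comp_totalMap, uFn_mk]
      · rw [vFn_mk, ← h1, comp_totalMap, vFn_mk]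
  wφ := toUnit_unique _ _

theorem totalMap_id (e₁ : (𝟙 D.T : D.T ⟶ D.T).left ⁻¹ᵁ D.T₁ = D.T₁) (e₂ : (𝟙 D.T : D.T ⟶ D.T).left ⁻¹ᵁ D.T₂ = D.T₂) :
    totalMap (h := h) (𝟙 D.T) e₁ e₂ = 𝟙 _ := by
  apply hom_ext <;> simp [totalMap]

theorem totalMap_comp {D'' : Charts π} (ψ' : D''.T ⟶ D'.T) (e₁ : ψ'.left ⁻¹ᵁ D'.T₁ = D''.T₁)
    (e₂ : ψ'.left ⁻¹ᵁ D'.T₂ = D''.T₂) (f₁ : (ψ' ≫ ψ).left ⁻¹ᵁ D.T₁ = D''.T₁)
    (f₂ : (ψ' ≫ ψ).left ⁻¹ᵁ D.T₂ = D''.T₂) :
    totalMap (h := h) (ψ' ≫ ψ) f₁ f₂ = totalMap ψ' e₁ e₂ ≫ totalMap ψ h₁ h₂ := by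
  rw [comp_totalMap]
  apply hom_ext <;> simp [totalMap]

end Groth.Agent.ThetaSLib.GaTorsor
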