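import Groth.Prelude.Def_ThetaS
import Groth.Agent.ThetaSLib.GaTorsor
import Groth.Agent.ThetaSLib.ThetaLift

/-!
# The functor from the punctured stack `ST_R ∖ 0` to `B 𝔾ₐ` with class `1/π`
-/

set_option backward.isDefEq.respectTransparency false
set_option backward.isDefEq.respectTransparency.types false

universe u

open CategoryTheory CategoryTheory.Limits MonoidalCategory CartesianMonoidalCategory AlgebraicGeometry Opposite
open TopologicalSpace (Opens)
open scoped TensorProduct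

namespace Groth.Agent.ThetaSLib

theorem preimage_act_basicOpen {R A C : Type u} [CommRing R] [CommRing A] [CommRing C] [HopfAlgebra R A]
    [Algebra R C] (aX : AlgGrp.Action (CoactBr.sp R A) (CoactBr.sp R C))
    (φa : C →ₐ[R] A ⊗[R] C) (hact : univPt R A C ≫ aX.act = CoactBr.pt φa) (c : C)
    (v : A ⊗[R] C) (hv : IsUnit v) (hφ : φa c = v * Algebra.TensorProduct.includeRight c) :
    aX.act.left ⁻¹ᵁ (CoactBr.sp R C).left.basicOpen (fn c) =
      (snd (CoactBr.sp R A) (CoactBr.sp R C)).left ⁻¹ᵁ (CoactBr.sp R C).left.basicOpen (fn c) := by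
  let i := univPt R A C
  have : IsIso i.left := inferInstanceAs (IsIso ((Over.forget _).map i))
  have hsnd : i ≫ snd _ _ = CoactBr.pt Algebra.TensorProduct.includeRight := lift_snd _ _
  have inj : Function.Injective (fun V : (CoactBr.sp R A ⊗ CoactBr.sp R C).left.Opens => i.left ⁻¹ᵁ V) :=
    fun V V' e => Opens.ext
      ((Function.Surjective.preimage_injective i.left.surjective) (congrArg Opens.carrier e))
  apply inj
  dsimp only
  rw [← Scheme.Hom.comp_preimage, ← Scheme.Hom.comp_preimage, ← Over.comp_left, ← Over.comp_left, hact, hsnd,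
    Scheme.preimage_basicOpen_top, Scheme.preimage_basicOpen_top, fn_pt, fn_pt, hφ, basicOpen_fn_unit_mul hv]

namespace GaTorsor

variable {R : Type u} [CommRing R] {π : R}

local notation "G" => ThetaS.Gm R
local notation "X" => ThetaS.STSch R π

theorem stable_s : (ThetaS.stAction R π).act.left ⁻¹ᵁ (X).left.basicOpen (fn (ThetaS.sFn R π)) =
    (snd G X).left ⁻¹ᵁ (X).left.basicOpen (fn (ThetaS.sFn R π)) :=
  preimage_act_basicOpen _ _ (st_act R π) _ _ ((isUnit_zPow R 1).map (iL R _)) (ThetaS.stPt_sFn _ _ _)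

theorem stable_t : (ThetaS.stAction R π).act.left ⁻¹ᵁ (X).left.basicOpen (fn (ThetaS.tFn R π)) =
    (snd G X).left ⁻¹ᵁ (X).left.basicOpen (fn (ThetaS.tFn R π)) :=
  preimage_act_basicOpen _ _ (st_act R π) _ _ ((isUnit_zPow R (-1)).map (iL R _)) (ThetaS.stPt_tFn _ _ _)

theorem torsor_surjective (b : AlgSt.QuotObj Scheme.fppfPrecoverage G (ThetaS.stAction R π)) :
    Surjective b.π.left := by
  obtain ⟨Pre, hR, hsec⟩ := b.loc
  refine ⟨fun y => ?_⟩
  obtain ⟨Z, f, hf, z, hz⟩ : ∃ (Z : Scheme.{u}) (f : Z ⟶ b.base.left) (_ : Pre f) (z : Z), f z = y := by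
    obtain ⟨Y, g, hg, x, hx⟩ := (Presieve.mem_comap_jointlySurjectivePrecoverage_iff Scheme.forget).1 hR.1 y
    exact ⟨Y, g, hg, x, hx⟩
  obtain ⟨σ, hσ⟩ := hsec f hf
  refine ⟨σ z, ?_⟩
  have hσ' : σ ≫ b.π.left = f := hσ
  exact (congrArg (fun m : Z ⟶ b.base.left => m z) hσ').trans hz

theorem preimage_inj (b : AlgSt.QuotObj Scheme.fppfPrecoverage G (ThetaS.stAction R π)) :
    Function.Injective (fun V : b.base.left.Opens => b.π.left ⁻¹ᵁ V) := fun V V' e =>
  Opens.ext ((Function.Surjective.preimage_injective (torsor_surjective b).surj) (congrArg Opens.carrier e))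

/-- The image of a stable locus in the base of a torsor is open. -/
theorem exists_base_open (b : AlgSt.QuotObj Scheme.fppfPrecoverage G (ThetaS.stAction R π)) (U : (X).left.Opens)
    (hU : (ThetaS.stAction R π).act.left ⁻¹ᵁ U = (snd G X).left ⁻¹ᵁ U) :
    ∃ T : b.base.left.Opens, b.π.left ⁻¹ᵁ T = b.φ.left ⁻¹ᵁ U := by
  have hstab : ∀ p q : b.P.left, b.π.left p = b.π.left q → b.φ.left q ∈ U → b.φ.left p ∈ U := by
    intro p q e hq
    have sq := b.cart.map (Over.forget _)
    obtain ⟨w, hw₁, hw₂⟩ := Scheme.exists_preimage_of_isPullback sq p q e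
    have h1 : b.φ.left p = (b.act.act ≫ b.φ).left w := by
      rw [← hw₁]; rfl
    have h2 : (G ◁ b.φ ≫ snd G X).left w = b.φ.left q := by
      rw [whiskerLeft_snd, ← hw₂]; rfl
    rw [h1, b.eqv]
    have h3 : (G ◁ b.φ).left w ∈ (snd G X).left ⁻¹ᵁ U := by
      show (snd G X).left ((G ◁ b.φ).left w) ∈ U
      rw [← Scheme.Hom.comp_apply, ← Over.comp_left, h2]; exact hq
    rw [← hU] at h3
    exact h3
  obtain ⟨Pre, hR, hsec⟩ := b.loc
  let S : Set b.base.left := b.π.left '' (b.φ.left ⁻¹ᵁ U : Set b.P.left)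
  have hS : IsOpen S := by
    rw [isOpen_iff_forall_mem_open]
    rintro y hy
    obtain ⟨Z, f, hf, z, hz⟩ : ∃ (Z : Scheme.{u}) (f : Z ⟶ b.base.left) (_ : Pre f) (z : Z), f z = y := by
      obtain ⟨Y, g, hg, x, hx⟩ := (Presieve.mem_comap_jointlySurjectivePrecoverage_iff Scheme.forget).1 hR.1 y
      exact ⟨Y, g, hg, x, hx⟩
    obtain ⟨σ, hσ⟩ := hsec f hf
    have hσ' : σ ≫ b.π.left = f := hσ
    have hσz : ∀ z, b.π.left (σ z) = f z := fun z => congrArg (fun m : Z ⟶ b.base.left => m z) hσ'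
    have hf' := hR.2 hf
    have : Flat f := hf'.1
    have : LocallyOfFinitePresentation f := hf'.2
    refine ⟨f '' (σ ⁻¹ᵁ (b.φ.left ⁻¹ᵁ U) : Set Z), ?_, f.isOpenMap _ (σ ⁻¹ᵁ (b.φ.left ⁻¹ᵁ U)).2, ?_⟩
    · rintro _ ⟨z', hz', rfl⟩
      exact ⟨σ z', hz', hσz z'⟩
    · obtain ⟨p, hp, hpy⟩ := hy
      exact ⟨z, hstab _ p (by rw [hσz, hz, hpy]) hp, hz⟩
  refine ⟨⟨S, hS⟩, Opens.ext (Set.ext fun p => ⟨?_, fun hp => ⟨p, hp, rfl⟩⟩)⟩
  rintro ⟨q, hq, e⟩
  exact hstab p q e.symm hq

/-- The open of the base over the locus where `s` is invertible. -/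
noncomputable def chart₁ (b : AlgSt.QuotObj Scheme.fppfPrecoverage G (ThetaS.stAction R π)) : b.base.left.Opens :=
  (exists_base_open b _ stable_s).choose

/-- The open of the base over the locus where `t` is invertible. -/
noncomputable def chart₂ (b : AlgSt.QuotObj Scheme.fppfPrecoverage G (ThetaS.stAction R π)) : b.base.left.Opens :=
  (exists_base_open b _ stable_t).choose

theorem chart₁_spec (b : AlgSt.QuotObj Scheme.fppfPrecoverage G (ThetaS.stAction R π)) :
    b.π.left ⁻¹ᵁ chart₁ b = b.φ.left ⁻¹ᵁ (X).left.basicOpen (fn (ThetaS.sFn R π)) :=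
  (exists_base_open b _ stable_s).choose_spec

theorem chart₂_spec (b : AlgSt.QuotObj Scheme.fppfPrecoverage G (ThetaS.stAction R π)) :
    b.π.left ⁻¹ᵁ chart₂ b = b.φ.left ⁻¹ᵁ (X).left.basicOpen (fn (ThetaS.tFn R π)) :=
  (exists_base_open b _ stable_t).choose_spec

theorem structMap_sp (r : R) : structMap (X).hom r = fn (R := R) (algebraMap R (ThetaS.STRing R π) r) := by
  change (Spec.map (CommRingCat.ofHom (algebraMap R (ThetaS.STRing R π)))).appTop
    ((Scheme.ΓSpecIso (CommRingCat.of R)).inv r) = _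
  exact (congrArg (fun t => (ConcreteCategory.hom t) r)
    (Scheme.ΓSpecIso_inv_naturality (CommRingCat.ofHom (algebraMap R (ThetaS.STRing R π))))).symm

theorem structMap_comp {Z Z' : Scheme.{u}} (g : Z' ⟶ Z) (z : Z ⟶ Spec (CommRingCat.of R)) (r : R) :
    structMap (g ≫ z) r = g.appTop (structMap z r) := by
  simp [structMap]

/-- The charts of an object missing the node. -/
noncomputable def charts (b : AlgSt.QuotObj Scheme.fppfPrecoverage G (ThetaS.stAction R π))
    (hb : ThetaS.MissesNode b) : Charts π where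
  T := b.base
  T₁ := chart₁ b
  T₂ := chart₂ b
  sup_eq := preimage_inj b (by
    dsimp only
    rw [Scheme.Hom.preimage_sup, chart₁_spec, chart₂_spec, Scheme.preimage_basicOpen_top,
      Scheme.preimage_basicOpen_top, Scheme.Hom.preimage_top]
    exact hb)
  inf_eq := preimage_inj b (by
    dsimp only
    rw [Scheme.Hom.preimage_inf, chart₁_spec, chart₂_spec, ← Scheme.Hom.preimage_inf, ← Scheme.basicOpen_mul,
      Scheme.preimage_basicOpen_top, Scheme.preimage_basicOpen_top, ← structMap_comp, Over.w]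
    congr 1
    have e : fn (R := R) (ThetaS.sFn R π) * fn (ThetaS.tFn R π) = structMap (X).hom π := by
      rw [structMap_sp, ← ThetaS.sFn_mul_tFn]
      exact (map_mul _ _ _).symm
    rw [e, ← structMap_comp, Over.w])

theorem chart₁_map {b b' : AlgSt.QuotObj Scheme.fppfPrecoverage G (ThetaS.stAction R π)} (ψ : b' ⟶ b) :
    (ψ.base.left ⁻¹ᵁ (chart₁ (R := R) (π := π) b) : b'.base.left.Opens) = chart₁ (R := R) (π := π) b' := preimage_inj b' (by
  dsimp only
  rw [chart₁_spec, ← ψ.wφ, Over.comp_left, Scheme.Hom.comp_preimage, ← chart₁_spec, ← Scheme.Hom.comp_preimage,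
    ← Scheme.Hom.comp_preimage, ← Over.comp_left, ← Over.comp_left, ψ.cart.w])

theorem chart₂_map {b b' : AlgSt.QuotObj Scheme.fppfPrecoverage G (ThetaS.stAction R π)} (ψ : b' ⟶ b) :
    (ψ.base.left ⁻¹ᵁ (chart₂ (R := R) (π := π) b) : b'.base.left.Opens) = chart₂ (R := R) (π := π) b' := preimage_inj b' (by
  dsimp only
  rw [chart₂_spec, ← ψ.wφ, Over.comp_left, Scheme.Hom.comp_preimage, ← chart₂_spec, ← Scheme.Hom.comp_preimage,
    ← Scheme.Hom.comp_preimage, ← Over.comp_left, ← Over.comp_left, ψ.cart.w])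

variable {S : Scheme.{u}} (h : Spec (CommRingCat.of R) ⟶ S)

variable (R π) in
/-- The functor `ST_R ∖ 0 ⟶ B 𝔾ₐ` with class `1/π`. -/
noncomputable def torsorFunctor :
    ThetaS.stPunc Scheme.fppfPrecoverage R π h ⥤ᵇ AlgSt.BG Scheme.fppfPrecoverage (Red.Ga S) where
  toFunctor :=
    { obj := fun x => torsor (charts x.obj x.property) h
      map := fun {x y} ψ => torsorMap (D' := charts x.obj x.property) (D := charts y.obj y.property)
        ψ.hom.base (chart₁_map ψ.hom) (chart₂_map ψ.hom)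
      map_id := fun x => AlgSt.QuotObj.hom_ext ((Over.map h).map_id _)
        (totalMap_id (D := charts x.obj x.property) (chart₁_map (𝟙 x.obj)) (chart₂_map (𝟙 x.obj)))
      map_comp := fun {x y z} φ ψ => AlgSt.QuotObj.hom_ext ((Over.map h).map_comp _ _)
        (totalMap_comp (D := charts z.obj z.property) (D' := charts y.obj y.property)
          (D'' := charts x.obj x.property) ψ.hom.base (chart₁_map ψ.hom) (chart₂_map ψ.hom)
          φ.hom.base (chart₁_map φ.hom) (chart₂_map φ.hom) (chart₁_map (φ.hom ≫ ψ.hom)) (chart₂_map (φ.hom ≫ ψ.hom))) }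
  w := rfl

end GaTorsor

end Groth.Agent.ThetaSLib
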